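import Cfsg.Agent.ZStar.DihedralBlock.Setup

/-!
# A dihedral Sylow 2-subgroup: sections of rotations and their fusion
-/

set_option autoImplicit false
set_option linter.unusedSectionVars false
set_option linter.style.haveILetI false

open Cfsg

namespace Cfsg.Agent.ZStar.Dih

variable {G : Type*} [Group G] [Finite G] {P : Sylow 2 G} {n : ℕ} {σ τ : G}

open scoped Classical in
/-- The order of the centralizer in `P` of a nontrivial rotation. -/
noncomputable def centCard (n : ℕ) (x : G) : ℕ := if x * x = 1 then 2 ^ n else 2 ^ (n - 1)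

theorem eq_one_of_pow_odd {x : G} {k o : ℕ} (hx : x ^ k = 1) (ho : x ^ o = 1)
    (hc : Nat.Coprime k o) : x = 1 := by
  have := pow_gcd_eq_one.mpr ⟨hx, ho⟩
  rwa [hc.gcd_eq_one, pow_one] at this

theorem commute_of_odd_sq {y a : G} (hy : Odd (orderOf y)) (h : Commute (y * y) a) :
    Commute y a := by
  obtain ⟨k, hk⟩ := hy
  have e : y = (y * y) ^ (k + 1) := by
    rw [← pow_two, ← pow_mul, show 2 * (k + 1) = (2 * k + 1) + 1 by ring, pow_succ, ← hk,
      pow_orderOf_eq_one, one_mul]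
  rw [e]
  exact h.pow_left _

open scoped Classical in
/-- A cyclic group has at most one subgroup of each order. -/
theorem zpowers_eq_of_orderOf_eq {s x y : G} (hx : x ∈ Subgroup.zpowers s)
    (hy : y ∈ Subgroup.zpowers s) (h : orderOf x = orderOf y) :
    Subgroup.zpowers x = Subgroup.zpowers y := by
  haveI := Fintype.ofFinite G
  set T := Subgroup.zpowers s
  haveI : IsCyclic T := Subgroup.isCyclic_zpowers s
  set S := Finset.univ.filter fun z : T => z ^ orderOf x = 1 with hS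
  have key : ∀ (w : G) (hw : w ∈ T), orderOf w = orderOf x →
      ∀ z : T, z ^ orderOf x = 1 → (z : G) ∈ Subgroup.zpowers w := by
    intro w hw ho z hz
    set W := Finset.univ.filter fun z : T => (z : G) ∈ Subgroup.zpowers w with hW
    have hWS : W ⊆ S := fun z hz => by
      simp only [hW, hS, Finset.mem_filter, Finset.mem_univ, true_and] at hz ⊢
      refine Subtype.ext ?_
      rw [Subgroup.coe_pow, Subgroup.coe_one]
      exact orderOf_dvd_iff_pow_eq_one.mp (ho ▸ Nat.card_zpowers w ▸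
        Subgroup.orderOf_dvd_natCard _ hz)
    have hWc : W.card = orderOf x := by
      rw [← ho, ← Nat.card_zpowers]
      refine (Nat.card_eq_of_equiv_fin (Equiv.trans ?_ W.equivFin)).symm
      exact
        { toFun := fun z => ⟨⟨z, (Subgroup.zpowers_le.mpr hw) z.2⟩, by
            simp only [hW, Finset.mem_filter, Finset.mem_univ, true_and]; exact z.2⟩
          invFun := fun z => ⟨(z.1 : G), by
            have := z.2; simp only [hW, Finset.mem_filter, Finset.mem_univ, true_and] at this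
            exact this⟩
          left_inv := fun z => rfl
          right_inv := fun z => rfl }
    have heq : W = S := Finset.eq_of_subset_of_card_le hWS
      (hWc ▸ IsCyclic.card_pow_eq_one_le (orderOf_pos x))
    have hzS : z ∈ S := by simp [hS, hz]
    rw [← heq] at hzS
    simpa [hW] using hzS
  refine le_antisymm (Subgroup.zpowers_le.mpr ?_) (Subgroup.zpowers_le.mpr ?_)
  · exact key y hy h.symm ⟨x, hx⟩ (Subtype.ext (by simp [pow_orderOf_eq_one]))
  · exact key x hx rfl ⟨y, hy⟩ (Subtype.ext (by simp [h, pow_orderOf_eq_one]))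

namespace Setup

variable (S : Setup P n σ τ)
include S

theorem card_zpowers_sigma : Nat.card (Subgroup.zpowers σ) = 2 ^ (n - 1) := by
  rw [Nat.card_zpowers, S.ord]

theorem natCard_P : Nat.card (P : Subgroup G) = 2 ^ n := by
  have h2 : (Subgroup.zpowers σ).relIndex (P : Subgroup G) = 2 := by
    have hle := S.zpowers_le
    refine Subgroup.index_eq_two_iff.mpr ⟨⟨τ, S.hτ⟩, fun b => ?_⟩
    simp only [Subgroup.mem_subgroupOf, Subgroup.coe_mul]
    rcases S.mem_cases b.2 with ⟨a, ha⟩ | ⟨a, ha⟩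
    · refine Or.inr ⟨Subgroup.mem_zpowers_iff.mpr ⟨a, ha⟩, fun h => S.tau_notMem ?_⟩
      rw [← ha] at h
      exact (Subgroup.mul_mem_cancel_left _ (Subgroup.zpow_mem_zpowers σ a)).mp h
    · refine Or.inl ⟨?_, ?_⟩
      · rw [ha, mul_assoc, S.tau_sq, mul_one]; exact ⟨a, rfl⟩
      · rw [ha]; exact S.refl_notMem a
  have h := Subgroup.card_mul_index ((Subgroup.zpowers σ).subgroupOf (P : Subgroup G))
  rw [Nat.card_congr (Subgroup.subgroupOfEquivOfLe S.zpowers_le).toEquiv,
    show ((Subgroup.zpowers σ).subgroupOf (P : Subgroup G)).index = 2 from h2,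
    S.card_zpowers_sigma] at h
  rw [← h, ← pow_succ]
  congr 1; have := S.hn; omega

theorem J_comm {p : G} (hp : p ∈ (P : Subgroup G)) : p * J n σ = J n σ * p := by
  have hJ : J n σ⁻¹ = (J n σ)⁻¹ := by rw [J, J, inv_pow]
  have hJi : (J n σ)⁻¹ = J n σ := inv_eq_of_mul_eq_one_right (by
    rw [← pow_two, ← S.orderOf_J, pow_orderOf_eq_one])
  rcases S.conj_eq_or S.J_mem hp with ⟨-, h⟩ | ⟨-, h⟩
  · exact mul_inv_eq_iff_eq_mul.mp h
  · rw [hJi] at h; exact mul_inv_eq_iff_eq_mul.mp h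

/-- A 2'-element fixing the central involution centralizes the subgroups of `P` it normalizes. -/
theorem odd_centralizes {y : G} (hy : Odd (orderOf y)) (hJ : Commute y (J n σ)) (Q : Subgroup G)
    (hQ : Q ≤ (P : Subgroup G)) (hyQ : y ∈ Subgroup.normalizer (Q : Set G)) :
    y ∈ Subgroup.centralizer (Q : Set G) := by
  haveI : Fact (Nat.Prime 2) := ⟨Nat.prime_two⟩
  have hconj : ∀ q ∈ Q, y * q * y⁻¹ ∈ Q := fun q hq => (Subgroup.mem_normalizer_iff.mp hyQ q).mp hq
  have hrot' : ∀ N : ℕ, ∀ a ∈ Q, a ∈ Subgroup.zpowers σ → orderOf a = N → y * a * y⁻¹ = a := by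
    intro N
    induction N using Nat.strong_induction_on with
    | _ N ih =>
      intro a ha haT hN
      by_cases ha1 : a = 1
      · rw [ha1]; group
      by_cases ha2 : a * a = 1
      · rw [S.eq_J_of_sq haT ha2 ha1]; exact mul_inv_eq_iff_eq_mul.mpr hJ.eq
      have hlt : orderOf (a * a) < N := by
        obtain ⟨k, hk⟩ := (P.2.to_le (Subgroup.zpowers_le.mpr (hQ ha))) ⟨a, Subgroup.mem_zpowers a⟩
        obtain ⟨i, hi⟩ := exists_orderOf_eq_prime_pow_iff.mpr ⟨k, congrArg Subtype.val hk⟩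
        obtain ⟨j, rfl⟩ : ∃ j, i = j + 1 := ⟨i - 1, by
          rcases Nat.eq_zero_or_pos i with h | h
          · exact absurd (orderOf_eq_one_iff.mp (by rw [hi, h, pow_zero])) ha1
          · omega⟩
        have h1 : orderOf (a * a) ≤ 2 ^ j := Nat.le_of_dvd (by positivity)
          (orderOf_dvd_of_pow_eq_one (by rw [← pow_two, ← pow_mul, ← pow_succ', ← hi,
            pow_orderOf_eq_one]))
        have : 0 < 2 ^ j := by positivity
        rw [← hN, hi, pow_succ]
        omega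
      have h2 := ih _ hlt (a * a) (mul_mem ha ha) (mul_mem haT haT) rfl
      rw [← conj_mul] at h2
      set b := y * a * y⁻¹ with hb
      have hbT : b ∈ Subgroup.zpowers σ := S.mem_zpowers_of_sq_ne (hQ (hconj a ha)) (by
        rw [h2]; exact ha2)
      have hcomm : Commute b a⁻¹ := (show Commute b a from S.isComm_zpowers haT hbT).inv_right
      have hsq : b * a⁻¹ * (b * a⁻¹) = 1 := by
        rw [hcomm.symm.mul_mul_mul_comm, h2, ← mul_inv_rev, mul_inv_cancel]
      by_cases hba : b * a⁻¹ = 1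
      · exact mul_inv_eq_one.mp hba
      have hJe : b = J n σ * a := by
        rw [← S.eq_J_of_sq (mul_mem hbT (inv_mem haT)) hsq hba, inv_mul_cancel_right]
      refine mul_inv_eq_iff_eq_mul.mpr (commute_of_odd_sq hy (mul_inv_eq_iff_eq_mul.mp ?_)).eq
      calc y * y * a * (y * y)⁻¹ = y * b * y⁻¹ := by rw [hb]; group
        _ = y * J n σ * y⁻¹ * b := by
          conv_lhs => rw [hJe]
          rw [hb]; group
        _ = a := by
          rw [mul_inv_eq_iff_eq_mul.mpr hJ.eq, hJe, ← mul_assoc,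
            show J n σ * J n σ = 1 by rw [← pow_two, ← S.orderOf_J, pow_orderOf_eq_one], one_mul]
  have hrot : ∀ a ∈ Q, a ∈ Subgroup.zpowers σ → y * a * y⁻¹ = a :=
    fun a ha haT => hrot' _ a ha haT rfl
  rw [Subgroup.mem_centralizer_iff]
  intro q hq
  refine (mul_inv_eq_iff_eq_mul.mp ?_).symm
  by_cases hqT : q ∈ Subgroup.zpowers σ
  · exact hrot q hq hqT
  have hq' : y * q * y⁻¹ ∉ Subgroup.zpowers σ := fun h => hqT (by
    have h1 := hrot _ (hconj q hq) h
    rwa [mul_left_cancel (mul_right_cancel h1)] at h)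
  set c := q⁻¹ * (y * q * y⁻¹) with hc
  have hcT : c ∈ Subgroup.zpowers σ := by
    obtain ⟨u, hu⟩ := (S.mem_cases (hQ hq)).resolve_left hqT
    obtain ⟨v, hv⟩ := (S.mem_cases (hQ (hconj q hq))).resolve_left hq'
    refine ⟨u + -v, ?_⟩
    show σ ^ (u + -v) = c
    rw [hc, hv, hu, inv_eq_of_mul_eq_one_right (S.refl_sq u),
      show σ ^ u * τ * (σ ^ v * τ) = σ ^ u * (τ * σ ^ v) * τ by group, S.tau_mul_zpow, zpow_add,
      mul_assoc (σ ^ u), mul_assoc (σ ^ (-v)), S.tau_sq, mul_one]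
  have hcQ : c ∈ Q := mul_mem (inv_mem hq) (hconj q hq)
  have he : y * q * y⁻¹ = q * c := by rw [hc, mul_inv_cancel_left]
  rw [he, T51.eq_one_of_fixed (P.2.to_le hQ) hy.coprime_two_right hcQ he (hrot c hcQ hcT), mul_one]

/-- Rotations are only fused to their inverses. -/
theorem fusion {x y : G} (hx : x ∈ Subgroup.zpowers σ) (hy : y ∈ Subgroup.zpowers σ)
    (hc : IsConj x y) : y = x ∨ y = x⁻¹ := by
  haveI : Fact (Nat.Prime 2) := ⟨Nat.prime_two⟩
  obtain ⟨g, hg⟩ := isConj_iff.mp hc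
  by_cases hx1 : x = 1
  · left; rw [← hg, hx1]; group
  by_cases hx2 : x * x = 1
  · left
    have hy1 : y ≠ 1 := by rw [← hg, Ne, conj_eq_one_iff]; exact hx1
    have hy2 : y * y = 1 := by rw [← hg, conj_mul, hx2]; group
    rw [S.eq_J_of_sq hx hx2 hx1, S.eq_J_of_sq hy hy2 hy1]
  have hgN : g ∈ Subgroup.normalizer (Subgroup.zpowers x : Set G) := by
    have hR : Subgroup.zpowers y = Subgroup.zpowers x :=
      zpowers_eq_of_orderOf_eq hy hx (by rw [← hg]; exact (MulAut.conj g).orderOf_eq x)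
    have hsurj : (Subgroup.zpowers x).map (MulAut.conj g).toMonoidHom = Subgroup.zpowers x := by
      rw [MonoidHom.map_zpowers, MulEquiv.coe_toMonoidHom, MulAut.conj_apply, hg, hR]
    rw [Subgroup.mem_normalizer_iff]
    intro z
    constructor
    · intro hz
      rw [← hsurj]; exact ⟨z, hz, rfl⟩
    · intro hz
      rw [← hsurj] at hz
      obtain ⟨w, hw, hwe⟩ := hz
      simp only [MulEquiv.coe_toMonoidHom, MulAut.conj_apply] at hwe
      rwa [← mul_left_cancel (mul_right_cancel hwe)]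
  obtain ⟨g2, g1, hg12, hg1, hg2⟩ : ∃ g2 g1 : G, g = g2 * g1 ∧ Odd (orderOf g1) ∧
      (g1 ∈ Subgroup.zpowers g ∧ g2 ∈ Subgroup.zpowers g ∧ ∃ k, g2 ^ 2 ^ k = 1) := by
    obtain ⟨k, m, hm, hkm⟩ :=
      Nat.exists_eq_pow_mul_and_not_dvd (orderOf_pos g).ne' 2 (by norm_num)
    obtain ⟨a, ha0, ha1⟩ : ∃ a : ℕ, a ≡ 0 [MOD m] ∧ a ≡ 1 [MOD 2 ^ k] := by
      obtain ⟨a, h1, h2⟩ := Nat.chineseRemainder
        (Nat.Coprime.pow_right k ((Nat.prime_two.coprime_iff_not_dvd.mpr hm).symm) :
          m.Coprime (2 ^ k)) 0 1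
      exact ⟨a, h1, h2⟩
    refine ⟨g ^ a, (g ^ a)⁻¹ * g, by group, ?_, ?_, Subgroup.pow_mem _ (Subgroup.mem_zpowers g) a,
      k, ?_⟩
    · refine Odd.of_dvd_nat (Nat.odd_iff.mpr (Nat.two_dvd_ne_zero.mp hm)) (orderOf_dvd_of_pow_eq_one ?_)
      have hcm : Commute (g ^ a)⁻¹ g := ((Commute.refl g).pow_left a).inv_left
      rw [hcm.mul_pow, inv_pow, inv_mul_eq_one, ← pow_mul, pow_eq_pow_iff_modEq, hkm]
      exact (Nat.ModEq.mul_right' m ha1).trans (by rw [one_mul])
    · exact mul_mem (inv_mem (Subgroup.pow_mem _ (Subgroup.mem_zpowers g) a))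
        (Subgroup.mem_zpowers g)
    · rw [← pow_mul]
      refine orderOf_dvd_iff_pow_eq_one.mp ?_
      rw [hkm, mul_comm]
      exact Nat.mul_dvd_mul (Nat.modEq_zero_iff_dvd.mp ha0) dvd_rfl
  obtain ⟨hg1z, hg2z, k, hg2k⟩ := hg2
  have hzN : Subgroup.zpowers g ≤ Subgroup.normalizer (Subgroup.zpowers x : Set G) :=
    Subgroup.zpowers_le.mpr hgN
  obtain ⟨i, hi⟩ : ∃ i, orderOf x = 2 ^ i := by
    obtain ⟨j, hj⟩ := P.2 ⟨x, S.zpowers_le hx⟩
    exact exists_orderOf_eq_prime_pow_iff.mpr ⟨j, congrArg Subtype.val hj⟩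
  have hg1x : g1 * x * g1⁻¹ = x := by
    obtain ⟨j, hj⟩ : g1 * x * g1⁻¹ ∈ Subgroup.zpowers x :=
      (Subgroup.mem_normalizer_iff.mp (hzN hg1z) x).mp (Subgroup.mem_zpowers x)
    simp only at hj
    have hpow : ∀ o : ℕ, g1 ^ o * x * (g1 ^ o)⁻¹ = x ^ (j ^ o) := by
      intro o
      induction o with
      | zero => simp
      | succ o ih =>
        rw [show g1 ^ (o + 1) * x * (g1 ^ (o + 1))⁻¹ = g1 * (g1 ^ o * x * (g1 ^ o)⁻¹) * g1⁻¹ by
          rw [pow_succ']; group, ih, ← _root_.conj_zpow, ← hj, ← zpow_mul, pow_succ']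
    have h1 := hpow (orderOf g1)
    rw [pow_orderOf_eq_one, one_mul, inv_one, mul_one] at h1
    nth_rewrite 1 [← zpow_one x] at h1
    rw [zpow_eq_zpow_iff_modEq, hi] at h1
    have h2 : ((j : ZMod (2 ^ i))) ^ orderOf g1 = 1 := by
      have := ((ZMod.intCast_eq_intCast_iff 1 (j ^ orderOf g1) (2 ^ i)).mpr h1).symm
      simpa using this
    haveI : NeZero (2 ^ i) := ⟨by positivity⟩
    obtain ⟨u, hu⟩ : IsUnit (j : ZMod (2 ^ i)) := IsUnit.of_pow_eq_one h2 (orderOf_pos g1).ne'
    have h3 : u = 1 := by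
      refine eq_one_of_pow_odd (k := orderOf g1) (o := Nat.totient (2 ^ i)) (Units.ext ?_)
        (ZMod.pow_totient u) ?_
      · rw [Units.val_pow_eq_pow_val, hu, h2, Units.val_one]
      · rcases Nat.eq_zero_or_pos i with h | h
        · subst h; simp
        · rw [Nat.totient_prime_pow Nat.prime_two h, show 2 - 1 = 1 from rfl, mul_one]
          exact Nat.Coprime.pow_right _ hg1.coprime_two_right
    rw [← hj]
    conv_rhs => rw [← zpow_one x]
    rw [zpow_eq_zpow_iff_modEq, hi, ← ZMod.intCast_eq_intCast_iff, ← hu, h3]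
    simp
  have hgx : g2 * x * g2⁻¹ = y := by
    rw [← hg, hg12, show g2 * g1 * x * (g2 * g1)⁻¹ = g2 * (g1 * x * g1⁻¹) * g2⁻¹ by group, hg1x]
  have hR : IsPGroup 2 (Subgroup.zpowers g2 ⊔ Subgroup.zpowers x : Subgroup G) := by
    obtain ⟨e, -, he⟩ := (Nat.dvd_prime_pow Nat.prime_two).mp (orderOf_dvd_of_pow_eq_one hg2k)
    refine IsPGroup.to_sup_of_normal_right' (IsPGroup.of_card (n := e) (by
      rw [Nat.card_zpowers, he])) (IsPGroup.of_card (n := i) (by rw [Nat.card_zpowers, hi]))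
      (Subgroup.zpowers_le.mpr (hzN hg2z))
  rw [← hgx]
  exact S.two_group_conj hR (Subgroup.mem_sup_right (Subgroup.mem_zpowers x))
    (Subgroup.mem_sup_left (Subgroup.mem_zpowers g2)) hx2

/-- The section of a nontrivial rotation. -/
theorem sectionData {x : G} (hx : x ∈ Subgroup.zpowers σ) (hx1 : x ≠ 1) :
    ∃ K : Subgroup G, SectionData 2 x K ∧
      Nat.card (Subgroup.centralizer ({x} : Set G)) = centCard n x * Nat.card K ∧
      (∀ c ∈ Subgroup.centralizer ({x} : Set G), Odd (orderOf c) → c ∈ K) ∧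
      ∀ c ∈ Subgroup.centralizer ({x} : Set G), ∃ r ∈ (P : Subgroup G),
        r ∈ Subgroup.centralizer ({x} : Set G) ∧ ∃ k ∈ K, c = r * k := by
  classical
  haveI : Fact (Nat.Prime 2) := ⟨Nat.prime_two⟩
  set C := Subgroup.centralizer ({x} : Set G)
  set R : Subgroup C := (P : Subgroup G).subgroupOf C with hR
  have hRp : IsPGroup 2 R := P.2.comap_subtype
  have hRcard : Nat.card R = centCard n x := by
    rw [centCard]
    split_ifs with h2
    · have hPC : (P : Subgroup G) ≤ C := fun p hp =>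
        Subgroup.mem_centralizer_singleton_iff.mpr (by rw [S.eq_J_of_sq hx h2 hx1]; exact S.J_comm hp)
      rw [hR, Nat.card_congr (Subgroup.subgroupOfEquivOfLe hPC).toEquiv, S.natCard_P]
    · have heq : (P : Subgroup G) ⊓ C = Subgroup.zpowers σ := by
        refine le_antisymm (fun p hp => ?_) (le_inf S.zpowers_le fun p hp =>
          Subgroup.mem_centralizer_singleton_iff.mpr (S.isComm_zpowers hx hp))
        rcases S.conj_eq_or hx hp.1 with ⟨h, -⟩ | ⟨-, h⟩
        · exact h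
        · refine absurd ?_ h2
          rw [mul_inv_eq_iff_eq_mul.mpr (Subgroup.mem_centralizer_singleton_iff.mp hp.2)] at h
          nth_rewrite 1 [h]
          exact inv_mul_cancel x
      rw [hR, ← Subgroup.inf_subgroupOf_right, heq, Nat.card_congr
        (Subgroup.subgroupOfEquivOfLe (heq ▸ inf_le_right)).toEquiv, S.card_zpowers_sigma]
  -- `R` is a Sylow subgroup
  obtain ⟨T, hRT⟩ := hRp.exists_le_sylow
  have hTR : (T : Subgroup C) = R := by
    refine (Subgroup.eq_of_le_of_card_ge hRT ?_).symm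
    rw [hRcard, centCard]
    have hmapT : IsPGroup 2 ((T : Subgroup C).map C.subtype) := T.2.map _
    have hcardT : Nat.card ((T : Subgroup C).map C.subtype) = Nat.card T :=
      Subgroup.card_map_of_injective C.subtype_injective
    rw [← hcardT]
    split_ifs with h2
    · obtain ⟨Q, hQ⟩ := hmapT.exists_le_sylow
      rw [← S.natCard_P, Sylow.card_eq_multiplicity P, ← Sylow.card_eq_multiplicity Q]
      exact Subgroup.card_le_of_le hQ
    · refine S.two_group_card hmapT ?_ (Subgroup.map_subtype_le _) h2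
      exact ⟨⟨x, Subgroup.mem_centralizer_singleton_iff.mpr rfl⟩,
        hRT (Subgroup.mem_subgroupOf.mpr (S.zpowers_le hx)), rfl⟩
  have hJx : J n σ ∈ Subgroup.zpowers x := S.J_mem_zpowers_of_ne hx hx1
  obtain ⟨T', N, hNn, hN⟩ := Transfer.hasNormalPComplement_of_normalizer_centralizer T
    (fun Q hQ _ y hy hyo => by
      have hyJ : Commute (y : G) (J n σ) := by
        obtain ⟨e, he⟩ := hJx
        simp only at he
        rw [← he]
        exact (show Commute (y : G) x from Subgroup.mem_centralizer_singleton_iff.mp y.2).zpow_right e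
      have hQP : Q.map C.subtype ≤ (P : Subgroup G) := by
        rintro _ ⟨q, hq, rfl⟩
        exact Subgroup.mem_subgroupOf.mp ((SetLike.ext_iff.mp hTR q).mp (hQ hq))
      have hyN : (y : G) ∈ Subgroup.normalizer ((Q.map C.subtype : Subgroup G) : Set G) := by
        rw [Subgroup.mem_normalizer_iff]
        intro z
        constructor
        · rintro ⟨q, hq, rfl⟩
          exact ⟨y * q * y⁻¹, (Subgroup.mem_normalizer_iff.mp hy q).mp hq, rfl⟩
        · rintro ⟨q, hq, hqe⟩
          refine ⟨y⁻¹ * q * y, (Subgroup.mem_normalizer_iff.mp hy _).mpr (by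
            rw [show y * (y⁻¹ * q * y) * y⁻¹ = q by group]; exact hq), ?_⟩
          simp only [Subgroup.coe_subtype, Subgroup.coe_mul, InvMemClass.coe_inv] at hqe ⊢
          rw [hqe]; group
      have h := S.odd_centralizes (y := (y : G))
        (by rw [Subgroup.orderOf_coe]; exact Nat.coprime_two_right.mp hyo) hyJ _ hQP hyN
      exact Subgroup.mem_centralizer_iff.mpr fun q hq =>
        Subtype.ext (Subgroup.mem_centralizer_iff.mp h q ⟨q, hq, rfl⟩))
  have hcompl : Subgroup.IsComplement' N R := by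
    rw [← hTR]
    refine Subgroup.isComplement'_of_coprime ?_ ?_
    · rw [Sylow.card_eq_multiplicity T, ← Sylow.card_eq_multiplicity T', hN.card_mul_card]
    · rw [← hN.index_eq_card]
      exact (T.2.exists_card_eq).elim fun j hj => hj ▸
        ((Nat.prime_two.coprime_iff_not_dvd.mpr T'.not_dvd_index).symm.pow_right j)
  obtain ⟨i, hi⟩ : ∃ i, orderOf x = 2 ^ i := by
    obtain ⟨j, hj⟩ := P.2 ⟨x, S.zpowers_le hx⟩
    exact exists_orderOf_eq_prime_pow_iff.mpr ⟨j, congrArg Subtype.val hj⟩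
  have hNodd : ¬ 2 ∣ Nat.card N := by
    rw [← hN.index_eq_card]; exact T'.not_dvd_index
  refine ⟨N.map C.subtype, ⟨⟨i, hi⟩, Subgroup.map_subtype_le _, ?_, ?_⟩, ?_, ?_, ?_⟩
  · intro c hc
    rw [Subgroup.mem_normalizer_iff]
    intro g
    constructor
    · rintro ⟨z, hz, rfl⟩
      exact ⟨⟨c, hc⟩ * z * ⟨c, hc⟩⁻¹, hNn.conj_mem z hz _, by simp⟩
    · rintro ⟨z, hz, hze⟩
      refine ⟨⟨c, hc⟩⁻¹ * z * ⟨c, hc⟩, by simpa using hNn.conj_mem z hz ⟨c, hc⟩⁻¹, ?_⟩
      simp only [Subgroup.coe_subtype, Subgroup.coe_mul, InvMemClass.coe_inv] at hze ⊢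
      rw [hze]; group
  · rwa [Subgroup.card_map_of_injective C.subtype_injective]
  · rw [Subgroup.card_map_of_injective C.subtype_injective, ← hRcard, mul_comm, hcompl.card_mul_card]
  · intro c hc ho
    obtain ⟨j, hj⟩ := IsPGroup.iff_card.mp hRp
    have h1 : (⟨c, hc⟩ : C) ^ 2 ^ j ∈ N := by
      rw [← hj, ← hcompl.symm.index_eq_card]
      exact Subgroup.pow_index_mem N _
    obtain ⟨a, ha⟩ : ∃ a, ((2 ^ j) * a) % orderOf (⟨c, hc⟩ : C) = 1 % orderOf (⟨c, hc⟩ : C) := by
      obtain ⟨a, ha⟩ := Nat.exists_mul_mod_eq_of_coprime 1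
        (Nat.Coprime.pow_left j (Nat.coprime_two_left.mpr
          (show Odd (orderOf (⟨c, hc⟩ : C)) by rwa [Subgroup.orderOf_mk])))
        (orderOf_pos _).ne'
      exact ⟨a, ha.2⟩
    refine ⟨⟨c, hc⟩, ?_, rfl⟩
    have := Subgroup.pow_mem N h1 a
    rw [← pow_mul, ← pow_mod_orderOf, ha, pow_mod_orderOf, pow_one] at this
    exact this
  · intro c hc
    obtain ⟨⟨r, k⟩, hkr⟩ := (hcompl.symm.existsUnique ⟨c, hc⟩).exists
    exact ⟨((r : C) : G), Subgroup.mem_subgroupOf.mp r.2, (r : C).2, ((k : C) : G),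
      ⟨k, k.2, rfl⟩, (congrArg Subtype.val hkr).symm⟩

end Setup

end Cfsg.Agent.ZStar.Dih
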