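import Cfsg.Agent.ZStar.DihedralBlock.Shape
import Mathlib.GroupTheory.SpecificGroups.Dihedral

/-!
# The values of the labelled principal block of a group with dihedral Sylow 2-subgroups
-/

set_option autoImplicit false
set_option linter.unusedSectionVars false
set_option linter.style.haveILetI false

open Cfsg

namespace Cfsg.Agent.ZStar.Dih

variable {G : Type*} [Group G] [Fintype G] {P : Sylow 2 G} {n : ℕ} {σ τ : G} {M : Ideal AlgInt}
  {ζ : ℂ} {u : IrrCharacter G → ℕ → ℤ} {a c d : IrrCharacter G} {b : ℕ → IrrCharacter G}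
  {δ δc δd : ℤ}

namespace Setup

variable (S : Setup P n σ τ)
include S

theorem pow_half (hζ : IsPrimitiveRoot ζ (2 ^ (n - 1))) : ζ ^ (2 ^ (n - 2)) = -1 := by
  exact (hζ.pow (by positivity) (show 2 ^ (n - 1) = 2 ^ (n - 2) * 2 by
    rw [S.pow_succ_eq, mul_comm])).eq_neg_one_of_two_right

theorem value_a (hζ : IsPrimitiveRoot ζ (2 ^ (n - 1))) (hu : Vec n σ ζ u)
    (H : Shape M n u a c d b δ δc δd) {l : ℕ} (h0 : 0 < l) (hl : l < 2 ^ (n - 1)) :
    (a : G → ℂ) (σ ^ l) = δ := by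
  have hnd : ¬ 2 ^ (n - 1) ∣ l := fun hd => by
    have := Nat.le_of_dvd h0 hd; omega
  have hmh := S.pow_succ_eq
  have hval : ∀ j, 0 < j → j < 2 ^ (n - 1) → u a j = -δ := by
    intro j hj0 hj
    by_cases hle : j ≤ 2 ^ (n - 2)
    · exact H.ua j hj0 hle
    · rw [← S.vec_symm hζ hu a hj0 hj]
      exact H.ua _ (by omega) (by omega)
  rw [hu.value a l hnd, ← Finset.sum_erase_add _ _ (Finset.mem_range.mpr (show 0 < 2 ^ (n - 1) by
    positivity)), S.vec_zero hu, Int.cast_zero, zero_mul, add_zero,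
    Finset.sum_congr rfl (g := fun j => (-δ : ℂ) * (ζ ^ j) ^ l) (fun j hj => by
      obtain ⟨hj0, hjr⟩ := Finset.mem_erase.mp hj
      rw [hval j (by omega) (Finset.mem_range.mp hjr)]; push_cast; ring),
    ← Finset.mul_sum, Finset.sum_erase_eq_sub (Finset.mem_range.mpr (by positivity))]
  have hz : ∑ j ∈ Finset.range (2 ^ (n - 1)), (ζ ^ j) ^ l = 0 := by
    have : ∀ j : ℕ, (ζ ^ j) ^ l = (ζ ^ (l : ℤ)) ^ j := fun j => by
      rw [zpow_natCast, ← pow_mul, ← pow_mul, mul_comm]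
    rw [Finset.sum_congr rfl fun j _ => this j, geom_sum_root hζ, if_neg]
    rwa [Int.natCast_dvd_natCast]
  rw [hz, pow_zero, one_pow]
  ring

theorem value_cd (hζ : IsPrimitiveRoot ζ (2 ^ (n - 1))) (hu : Vec n σ ζ u)
    {x : IrrCharacter G} {e : ℤ} (hx : ∀ j, 0 < j → j < 2 ^ (n - 2) → u x j = 0)
    (hxh : u x (2 ^ (n - 2)) = -e) {l : ℕ} (h0 : 0 < l) (hl : l < 2 ^ (n - 1)) :
    (x : G → ℂ) (σ ^ l) = (e : ℂ) * (-1) ^ (l + 1) := by
  have hnd : ¬ 2 ^ (n - 1) ∣ l := fun hd => by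
    have := Nat.le_of_dvd h0 hd; omega
  have hmh := S.pow_succ_eq
  have := S.two_le
  rw [hu.value x l hnd, Finset.sum_eq_single (2 ^ (n - 2))]
  · rw [hxh, S.pow_half hζ]; push_cast; ring
  · intro j hj hne
    have hjlt := Finset.mem_range.mp hj
    have : u x j = 0 := by
      rcases Nat.eq_zero_or_pos j with rfl | hj0
      · exact S.vec_zero hu x
      rcases lt_or_gt_of_ne hne with h | h
      · exact hx j hj0 h
      · rw [← S.vec_symm hζ hu x hj0 hjlt]; exact hx _ (by omega) (by omega)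
    rw [this, Int.cast_zero, zero_mul]
  · intro h
    exact absurd (Finset.mem_range.mpr (by omega)) h

theorem value_b (hζ : IsPrimitiveRoot ζ (2 ^ (n - 1))) (hu : Vec n σ ζ u)
    (H : Shape M n u a c d b δ δc δd) {k : ℕ} (hk0 : 0 < k) (hk : k < 2 ^ (n - 2))
    {l : ℕ} (h0 : 0 < l) (hl : l < 2 ^ (n - 1)) :
    (b k : G → ℂ) (σ ^ l) = (δ : ℂ) * (ζ ^ (k * l) + (ζ ^ (k * l))⁻¹) := by
  have hnd : ¬ 2 ^ (n - 1) ∣ l := fun hd => by
    have := Nat.le_of_dvd h0 hd; omega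
  have hmh := S.pow_succ_eq
  rw [hu.value (b k) l hnd, ← Finset.sum_subset (s₁ := ({k, 2 ^ (n - 1) - k} : Finset ℕ))
    (s₂ := Finset.range (2 ^ (n - 1)))]
  · rw [Finset.sum_pair (by omega), S.vec_symm hζ hu (b k) hk0 (by omega),
      H.ub k k hk0 hk hk0 hk.le, if_pos rfl, ← mul_add, ← pow_mul, ← pow_mul]
    congr 1
    rw [add_right_inj]
    refine eq_inv_of_mul_eq_one_right ?_
    rw [← pow_add, ← add_mul, Nat.add_sub_cancel' (by omega), pow_mul, hζ.pow_eq_one, one_pow]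
  · intro j hj
    simp only [Finset.mem_insert, Finset.mem_singleton] at hj
    exact Finset.mem_range.mpr (by omega)
  · intro j hj hjn
    have hjlt := Finset.mem_range.mp hj
    simp only [Finset.mem_insert, Finset.mem_singleton, not_or] at hjn
    have : u (b k) j = 0 := by
      rcases Nat.eq_zero_or_pos j with rfl | hj0
      · exact S.vec_zero hu _
      by_cases hle : j ≤ 2 ^ (n - 2)
      · rw [H.ub k j hk0 hk hj0 hle, if_neg hjn.1]
      · rw [← S.vec_symm hζ hu (b k) hj0 hjlt, H.ub k _ hk0 hk (by omega) (by omega),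
          if_neg (by omega)]
    rw [this, Int.cast_zero, zero_mul]

theorem relation (hM : IsPModular 2 M) (hζ : IsPrimitiveRoot ζ (2 ^ (n - 1))) (hu : Vec n σ ζ u)
    (H : Shape M n u a c d b δ δc δd) {ρ : G} (hρ : Odd (orderOf ρ)) :
    (1 + (δ : ℂ) * (a : G → ℂ) ρ = -(δc : ℂ) * (c : G → ℂ) ρ - (δd : ℂ) * (d : G → ℂ) ρ) ∧
      ∀ j, 0 < j → j < 2 ^ (n - 2) →
        1 + (δ : ℂ) * (a : G → ℂ) ρ = (δ : ℂ) * (b j : G → ℂ) ρ := by
  have hρ2 : IsPPart 2 ρ 1 :=
    ⟨ρ, one_mul ρ, Commute.one_left ρ, ⟨0, by simp⟩, by rw [Nat.odd_iff] at hρ; omega⟩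
  have hoff : ∀ j, j < 2 ^ (n - 1) → ∑ χ ∈ blk M G, (u χ j : ℂ) * (χ : G → ℂ) ρ = 0 :=
    fun j hj => S.theta_off hM hζ hu hρ2 hj fun l h0 hl hc =>
      S.rot_ne_one h0 hl (isConj_one_right.mp hc)
  have hmh := S.pow_succ_eq
  have := S.two_le
  refine ⟨?_, fun j hj0 hj => ?_⟩
  · have h := hoff (2 ^ (n - 2)) (by omega)
    rw [H.vech fun χ => (χ : G → ℂ) ρ] at h
    simp only [BlocksDefect.coe_oneIrr] at h
    linear_combination -h
  · have h := hoff j (by omega)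
    rw [H.vec j hj0 hj fun χ => (χ : G → ℂ) ρ] at h
    simp only [BlocksDefect.coe_oneIrr] at h
    linear_combination -h

theorem natCard_block (H : Shape M n u a c d b δ δc δd) :
    Nat.card (principalBlock M G) = 3 + 2 ^ (n - 2) := by
  classical
  set T : Finset (IrrCharacter G) :=
    ({BlocksDefect.oneIrr G, a, c, d} : Finset _) ∪ (Finset.Ico 1 (2 ^ (n - 2))).image b with hT
  have hset : principalBlock M G = (T : Set (IrrCharacter G)) := by
    ext χ
    rw [H.mem, Finset.mem_coe, hT]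
    simp only [Finset.mem_union, Finset.mem_insert, Finset.mem_singleton, Finset.mem_image,
      Finset.mem_Ico]
    constructor
    · rintro (h | h | h | h | ⟨j, h1, h2, h⟩)
      · exact Or.inl (Or.inl h)
      · exact Or.inl (Or.inr (Or.inl h))
      · exact Or.inl (Or.inr (Or.inr (Or.inl h)))
      · exact Or.inl (Or.inr (Or.inr (Or.inr h)))
      · exact Or.inr ⟨j, ⟨h1, h2⟩, h.symm⟩
    · rintro ((h | h | h | h) | ⟨j, ⟨h1, h2⟩, h⟩)
      · exact Or.inl h
      · exact Or.inr (Or.inl h)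
      · exact Or.inr (Or.inr (Or.inl h))
      · exact Or.inr (Or.inr (Or.inr (Or.inl h)))
      · exact Or.inr (Or.inr (Or.inr (Or.inr ⟨j, h1, h2, h.symm⟩)))
  obtain ⟨n1, n2, n3, n4⟩ := H.ne_one
  obtain ⟨m1, m2, m3, m4⟩ := H.ne
  rw [hset, Nat.card_coe_set_eq, Set.ncard_coe_finset, hT, Finset.card_union_of_disjoint,
    Finset.card_image_of_injOn, Nat.card_Ico, Finset.card_insert_of_notMem (by simp [n1.symm, n2.symm, n3.symm]),
    Finset.card_insert_of_notMem (by simp [m1, m2]), Finset.card_pair m3]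
  · have := S.two_le
    omega
  · intro x hx y hy e
    simp only [Finset.coe_Ico, Set.mem_Ico] at hx hy
    exact H.inj x y hx.1 hx.2 hy.1 hy.2 e
  · rw [Finset.disjoint_right]
    intro x hx hx'
    obtain ⟨j, hj, rfl⟩ := Finset.mem_image.mp hx
    rw [Finset.mem_Ico] at hj
    simp only [Finset.mem_insert, Finset.mem_singleton] at hx'
    rcases hx' with h | h | h | h
    · exact n4 j hj.1 hj.2 h
    · exact (m4 j hj.1 hj.2).1 h
    · exact (m4 j hj.1 hj.2).2.1 h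
    · exact (m4 j hj.1 hj.2).2.2 h

end Setup

open DihedralGroup in
/-- Coordinates from an isomorphism with a dihedral group. -/
theorem exists_setup {n : ℕ} (hn : 3 ≤ n) (P : Sylow 2 G)
    (e : (P : Subgroup G) ≃* DihedralGroup (2 ^ (n - 1))) {σ : G} (hσ : σ ∈ (P : Subgroup G))
    (hσo : orderOf σ = 2 ^ (n - 1)) : ∃ τ, Setup P n σ τ := by
  haveI : NeZero (2 ^ (n - 1)) := ⟨by positivity⟩
  have h4 : 4 ≤ 2 ^ (n - 1) := by
    calc 4 = 2 ^ 2 := rfl
      _ ≤ 2 ^ (n - 1) := Nat.pow_le_pow_right (by norm_num) (by omega)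
  obtain ⟨i, hi⟩ : ∃ i, e ⟨σ, hσ⟩ = r i := by
    match hc : e ⟨σ, hσ⟩ with
    | r i => exact ⟨i, rfl⟩
    | sr i =>
      have := MulEquiv.orderOf_eq e ⟨σ, hσ⟩
      rw [hc, orderOf_sr, Subgroup.orderOf_mk, hσo] at this
      omega
  set t := e.symm (sr 0)
  have ht : orderOf (t : G) = 2 := by
    rw [Subgroup.orderOf_coe, MulEquiv.orderOf_eq, orderOf_sr]
  have hrel : (t : G) * σ * (t : G)⁻¹ = σ⁻¹ := by
    have h1 : t * ⟨σ, hσ⟩ * t⁻¹ = (⟨σ, hσ⟩ : (P : Subgroup G))⁻¹ := by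
      apply e.injective
      simp [t, hi, map_mul, map_inv]
    exact congrArg Subtype.val h1
  refine ⟨t, hn, hσ, t.2, hσo, ht, hrel, ?_⟩
  have hle : Subgroup.closure ({σ, (t : G)} : Set G) ≤ (P : Subgroup G) := by
    rw [Subgroup.closure_le]
    rintro x (rfl | rfl)
    exacts [hσ, t.2]
  refine Subgroup.eq_of_le_of_card_ge hle ?_
  have hzle : Subgroup.zpowers σ ≤ Subgroup.closure ({σ, (t : G)} : Set G) :=
    Subgroup.zpowers_le.mpr (Subgroup.subset_closure (Set.mem_insert _ _))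
  have htn : (t : G) ∉ Subgroup.zpowers σ := by
    rintro ⟨k, hk⟩
    simp only at hk
    rw [← hk, show σ ^ k * σ * (σ ^ k)⁻¹ = σ by group] at hrel
    have h2 := Nat.le_of_dvd two_pos (orderOf_dvd_of_pow_eq_one
      (show σ ^ 2 = 1 by rw [pow_two]; nth_rewrite 1 [hrel]; exact inv_mul_cancel σ))
    omega
  obtain ⟨q, hq⟩ := Subgroup.card_dvd_of_le hzle
  have hq2 : 2 ≤ q := by
    by_contra hlt
    have hq0 : 0 < q := Nat.pos_of_ne_zero fun h => by
      rw [h, mul_zero] at hq; exact absurd hq Nat.card_pos.ne'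
    have heq := Subgroup.eq_of_le_of_card_ge hzle (by rw [hq, show q = 1 by omega, mul_one])
    exact htn (heq ▸ Subgroup.subset_closure (Set.mem_insert_of_mem _ rfl))
  rw [Nat.card_congr e.toEquiv, DihedralGroup.nat_card, hq, Nat.card_zpowers, hσo, mul_comm 2]
  exact Nat.mul_le_mul_left _ hq2

end Cfsg.Agent.ZStar.Dih
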