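import Cfsg.Agent.ZStar.DihedralBlock.PairCount

/-!
# The order formula for groups with dihedral Sylow 2-subgroups and one class of involutions
-/

set_option autoImplicit false
set_option linter.unusedSectionVars false
set_option linter.style.haveILetI false

open Cfsg

namespace Cfsg.Agent.ZStar.Dih

variable {G : Type*} [Group G] [Fintype G] {P : Sylow 2 G} {n : ℕ} {σ τ : G} {M : Ideal AlgInt}
  {ζ : ℂ} {u : IrrCharacter G → ℕ → ℤ}

open scoped Classical in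
/-- Weighted sums with weights of period two. -/
theorem weighted_sum {h : ℕ} {z : ℂ} (hh : 2 ≤ h) (hz : IsPrimitiveRoot z (2 * h)) (A B : ℂ) :
    (∑ a ∈ Finset.range (2 * h), ∑ b ∈ Finset.range (2 * h),
      (if Even a then A else B) * (if Even b then A else B) *
        (z ^ a * (z ^ b)⁻¹ + (z ^ a * (z ^ b)⁻¹)⁻¹ - 2)) = -2 * ((h : ℂ) * (A + B)) ^ 2 := by
  have hz0 : z ≠ 0 := hz.ne_zero (by omega)
  set w : ℕ → ℂ := fun a => if Even a then A else B with hw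
  have hwf : ∀ a, w a = (A + B) / 2 + (A - B) / 2 * (-1) ^ a := by
    intro a
    simp only [hw]
    split_ifs with h'
    · rw [h'.neg_one_pow]; ring
    · rw [(Nat.not_even_iff_odd.mp h').neg_one_pow]; ring
  have hne : ∀ i : ℤ, i = 1 ∨ i = -1 → z ^ i ≠ 1 ∧ -(z ^ i) ≠ 1 := by
    intro i hi
    constructor
    · intro h'
      have := (hz.zpow_eq_one_iff_dvd i).mp h'
      have h2 := Int.eq_zero_of_dvd_of_natAbs_lt_natAbs this (by omega)
      omega
    · intro h'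
      have h1 : z ^ (i + i) = 1 := by
        rw [zpow_add₀ hz0, ← neg_mul_neg, h', one_mul]
      have := (hz.zpow_eq_one_iff_dvd _).mp h1
      have h2 := Int.eq_zero_of_dvd_of_natAbs_lt_natAbs this (by omega)
      omega
  have hsum0 : ∀ i : ℤ, i = 1 ∨ i = -1 → ∑ a ∈ Finset.range (2 * h), w a * (z ^ i) ^ a = 0 := by
    intro i hi
    obtain ⟨h1, h2⟩ := hne i hi
    have hp : (z ^ i) ^ (2 * h) = 1 := by
      rw [← zpow_natCast, ← zpow_mul, hz.zpow_eq_one_iff_dvd]; exact Dvd.intro_left _ rfl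
    have g1 : ∑ a ∈ Finset.range (2 * h), (z ^ i) ^ a = 0 := by
      have := geom_sum_mul (z ^ i) (2 * h)
      rw [hp, sub_self] at this
      exact (mul_eq_zero.mp this).resolve_right (sub_ne_zero.mpr h1)
    have g2 : ∑ a ∈ Finset.range (2 * h), (-(z ^ i)) ^ a = 0 := by
      have := geom_sum_mul (-(z ^ i)) (2 * h)
      rw [Even.neg_pow (even_two_mul h), hp, sub_self] at this
      exact (mul_eq_zero.mp this).resolve_right (sub_ne_zero.mpr h2)
    have e : ∀ a, w a * (z ^ i) ^ a =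
        (A + B) / 2 * (z ^ i) ^ a + (A - B) / 2 * (-(z ^ i)) ^ a := fun a => by
      rw [hwf, neg_pow (z ^ i) a]; ring
    simp only [e, Finset.sum_add_distrib, ← Finset.mul_sum, g1, g2, mul_zero, add_zero]
  have htot : ∑ a ∈ Finset.range (2 * h), w a = (h : ℂ) * (A + B) := by
    have g : ∑ a ∈ Finset.range (2 * h), (-1 : ℂ) ^ a = 0 := by
      have := geom_sum_mul (-1 : ℂ) (2 * h)
      rw [Even.neg_pow (even_two_mul h), one_pow, sub_self] at this
      exact (mul_eq_zero.mp this).resolve_right (by norm_num)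
    simp only [hwf, Finset.sum_add_distrib, ← Finset.mul_sum, g, mul_zero, add_zero,
      Finset.sum_const, Finset.card_range, nsmul_eq_mul]
    push_cast; ring
  have e : ∀ a b, w a * w b * (z ^ a * (z ^ b)⁻¹ + (z ^ a * (z ^ b)⁻¹)⁻¹ - 2) =
      (w a * (z ^ (1 : ℤ)) ^ a) * (w b * (z ^ (-1 : ℤ)) ^ b) +
        (w a * (z ^ (-1 : ℤ)) ^ a) * (w b * (z ^ (1 : ℤ)) ^ b) - 2 * (w a * w b) := by
    intro a b
    simp only [zpow_one, zpow_neg, inv_pow, mul_inv, inv_inv]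
    ring
  show (∑ a ∈ Finset.range (2 * h), ∑ b ∈ Finset.range (2 * h), w a * w b * _) = _
  simp only [e, Finset.sum_add_distrib, Finset.sum_sub_distrib, ← Finset.mul_sum, ← Finset.sum_mul,
    hsum0 1 (Or.inl rfl), hsum0 (-1) (Or.inr rfl), htot, zero_mul, add_zero]
  ring

namespace Setup

variable (S : Setup P n σ τ)
include S

theorem order_formula (hM : IsPModular 2 M) (hτJ : IsConj (J n σ) τ)
    (hστJ : IsConj (J n σ) (σ * τ)) (χ₁ : IrrCharacter G) (hχ₁ : χ₁ ∈ principalBlock M G)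
    (h1 : (χ₁ : G → ℂ) ≠ fun _ => 1) (δ₁ : ℤ) (hδ₁ : δ₁ = 1 ∨ δ₁ = -1)
    (hval : ∀ l : ℕ, 0 < l → l < 2 ^ (n - 1) → (χ₁ : G → ℂ) (σ ^ l) = δ₁) :
    (charDegree (χ₁ : G → ℂ) : ℤ) ≠ δ₁ ∧
      (Nat.card G : ℚ) * ((charDegree (χ₁ : G → ℂ) : ℚ) - δ₁) ^ 2 =
        2 * (charDegree (χ₁ : G → ℂ) : ℚ) * ((charDegree (χ₁ : G → ℂ) : ℚ) + δ₁) *
          (Nat.card (Subgroup.centralizer ({J n σ} : Set G)) : ℚ) ^ 3 *
          (1 / (Nat.card (Subgroup.centralizer ({J n σ, τ} : Set G)) : ℚ) +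
            1 / (Nat.card (Subgroup.centralizer ({J n σ, σ * τ} : Set G)) : ℚ)) ^ 2 := by
  classical
  set h := 2 ^ (n - 2) with hh
  have hmh : 2 ^ (n - 1) = 2 * h := S.pow_succ_eq
  have h2 : 2 ≤ h := S.two_le
  set ζ := Complex.exp (2 * Real.pi * Complex.I / ((2 ^ (n - 1) : ℕ) : ℂ))
  have hζ : IsPrimitiveRoot ζ (2 ^ (n - 1)) := Complex.isPrimitiveRoot_exp _ (by positivity)
  obtain ⟨u, hu⟩ := S.exists_vec hζ
  obtain ⟨a, c, d, b, δ, δc, δd, H⟩ := S.exists_shape hM hζ hu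
  -- identify the character
  obtain ⟨hida, hidδ⟩ : χ₁ = a ∧ δ₁ = δ := by
    have hone : χ₁ ≠ BlocksDefect.oneIrr G := fun e => h1 (e ▸ BlocksDefect.coe_oneIrr)
    have e1 : ∀ x : IrrCharacter G, x = χ₁ → (x : G → ℂ) (σ ^ 1) = (δ₁ : ℂ) ∧
        (x : G → ℂ) (σ ^ 2) = (δ₁ : ℂ) ∧ (x : G → ℂ) (σ ^ h) = (δ₁ : ℂ) := by
      rintro x rfl
      exact ⟨hval 1 one_pos (by omega), hval 2 two_pos (by omega), hval h (by omega) (by omega)⟩
    rcases (H.mem χ₁).mp hχ₁ with e | e | e | e | ⟨j, hj0, hj, e⟩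
    · exact absurd e hone
    · refine ⟨e, ?_⟩
      have := (e1 a e.symm).1
      rw [S.value_a hζ hu H one_pos (by omega)] at this
      exact_mod_cast this.symm
    · exfalso
      obtain ⟨v1, v2, -⟩ := e1 c e.symm
      rw [S.value_cd hζ hu (fun j hj0 hj => (H.uc.1 j hj0 hj).1) H.uc.2.1 one_pos (by omega)] at v1
      rw [S.value_cd hζ hu (fun j hj0 hj => (H.uc.1 j hj0 hj).1) H.uc.2.1 two_pos (by omega)] at v2
      have : (δc : ℂ) = ((0 : ℤ) : ℂ) := by push_cast; linear_combination (v1 - v2) / 2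
      have := H.sign.2.1
      have : δc = 0 := by exact_mod_cast ‹(δc : ℂ) = ((0 : ℤ) : ℂ)›
      omega
    · exfalso
      obtain ⟨v1, v2, -⟩ := e1 d e.symm
      rw [S.value_cd hζ hu (fun j hj0 hj => (H.uc.1 j hj0 hj).2) H.uc.2.2 one_pos (by omega)] at v1
      rw [S.value_cd hζ hu (fun j hj0 hj => (H.uc.1 j hj0 hj).2) H.uc.2.2 two_pos (by omega)] at v2
      have : (δd : ℂ) = ((0 : ℤ) : ℂ) := by push_cast; linear_combination (v1 - v2) / 2
      have := H.sign.2.2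
      have : δd = 0 := by exact_mod_cast ‹(δd : ℂ) = ((0 : ℤ) : ℂ)›
      omega
    · exfalso
      obtain ⟨-, -, v⟩ := e1 (b j) e.symm
      rw [S.value_b hζ hu H hj0 hj (by omega) (by omega), mul_comm j h, pow_mul, S.pow_half hζ] at v
      have hz : ((-1 : ℂ) ^ j) + ((-1 : ℂ) ^ j)⁻¹ = 2 * (((-1 : ℤ) ^ j : ℤ) : ℂ) := by
        rcases Nat.even_or_odd j with e' | e' <;> simp [e'.neg_one_pow] <;> ring
      rw [hz, ← mul_assoc, mul_comm (δ : ℂ) 2, mul_assoc] at v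
      have hv : 2 * (δ * (-1) ^ j) = δ₁ := by exact_mod_cast v
      rcases hδ₁ with rfl | rfl <;> omega
  subst hida hidδ
  set x := charDegree (χ₁ : G → ℂ) with hx
  set y := charDegree (b 1 : G → ℂ) with hy
  have hxC : (χ₁ : G → ℂ) 1 = (x : ℂ) := BlocksCore.irr_one_eq χ₁
  have hyC : (b 1 : G → ℂ) 1 = (y : ℂ) := BlocksCore.irr_one_eq (b 1)
  have hx0 : (x : ℂ) ≠ 0 := hxC ▸ BlocksCore.irr_one_ne_zero χ₁
  have hy0 : (y : ℂ) ≠ 0 := hyC ▸ BlocksCore.irr_one_ne_zero (b 1)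
  have hrel : 1 + (δ₁ : ℂ) * x = (δ₁ : ℂ) * y := by
    have := (S.relation hM hζ hu H (ρ := 1) (by simp)).2 1 one_pos (by omega)
    rwa [hxC, hyC] at this
  obtain ⟨K, C⟩ := S.exists_core
  set Q := cls (J n σ) with hQ
  -- the two evaluations of the pair sum
  have hbJ : ((b 1 : G → ℂ) (J n σ)) ^ 2 = 4 := by
    rw [J, S.value_b hζ hu H one_pos (by omega) (by omega) (by omega), one_mul, ← hh, S.pow_half hζ]
    rcases hδ₁ with e | e <;> rw [e] <;> push_cast <;> norm_num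
  have haJ : (χ₁ : G → ℂ) (J n σ) = δ₁ := S.value_a hζ hu H (by positivity) (by omega)
  have hchar : ∑ i ∈ Q, ∑ j ∈ Q, theta M u (i * j) =
      (Q.card : ℂ) ^ 2 * (-1 - (δ₁ : ℂ) / x + 4 * (δ₁ : ℂ) / y) := by
    simp only [theta]
    rw [Finset.sum_congr rfl fun i _ => Finset.sum_comm, Finset.sum_comm]
    simp only [← Finset.mul_sum, hQ, class_pair]
    rw [H.vec 1 one_pos (by omega)
      fun χ => (((cls (J n σ)).card : ℂ) * (χ : G → ℂ) (J n σ)) ^ 2 / (χ : G → ℂ) 1]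
    simp only [BlocksDefect.coe_oneIrr, mul_one, div_one, mul_pow, hbJ, haJ, hxC, hyC]
    rw [show ((δ₁ : ℂ)) ^ 2 = 1 by rcases hδ₁ with e | e <;> rw [e] <;> norm_num]
    ring
  have hcount := S.pair_sum hM hζ hu
  rw [← hQ, hchar, S.central_sum C hM hζ hu hτJ hστJ] at hcount
  set A := (cosetInv K σ τ 0).card with hA
  set B := (cosetInv K σ τ 1).card with hB
  set nτ := Nat.card (K ⊓ Subgroup.centralizer ({τ} : Set G) : Subgroup G) with hnτ
  set nσ := Nat.card (K ⊓ Subgroup.centralizer ({σ * τ} : Set G) : Subgroup G) with hnσ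
  have hyP : ∀ k : ℕ, σ ^ k * τ ∈ (P : Subgroup G) ∧ σ ^ k * τ * (σ ^ k * τ) = 1 := fun k =>
    ⟨mul_mem (Subgroup.pow_mem _ S.hσ k) S.hτ, by rw [← zpow_natCast]; exact S.refl_sq _⟩
  have hcard : ∀ k : ℕ, (cosetInv K σ τ k).card * (if Even k then nτ else nσ) = Nat.card K :=
    fun k => by
      rw [← S.natCard_cent_refl C k]
      exact S.card_coset_invol C (hyP k).1 (hyP k).2
  have hnpos : 0 < nτ ∧ 0 < nσ := ⟨Nat.card_pos, Nat.card_pos⟩
  have hAe : A * nτ = Nat.card K := by have := hcard 0; simpa using this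
  have hBe : B * nσ = Nat.card K := by have := hcard 1; simpa using this
  have hpar : ∀ k : ℕ, ((cosetInv K σ τ k).card : ℂ) = if Even k then (A : ℂ) else (B : ℂ) := by
    intro k
    have := hcard k
    split_ifs with hk
    · rw [if_pos hk, ← hAe] at this
      exact_mod_cast Nat.eq_of_mul_eq_mul_right hnpos.1 this
    · rw [if_neg hk, ← hBe] at this
      exact_mod_cast Nat.eq_of_mul_eq_mul_right hnpos.2 this
  simp only [hpar] at hcount
  rw [hmh, weighted_sum h2 (hmh ▸ hζ)] at hcount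
  -- centralizer orders
  set cJ := Nat.card (Subgroup.centralizer ({J n σ} : Set G)) with hcJ
  set cτ := Nat.card (Subgroup.centralizer ({J n σ, τ} : Set G)) with hcτ
  set cσ := Nat.card (Subgroup.centralizer ({J n σ, σ * τ} : Set G)) with hcσ
  have hcτe : cτ = 4 * nτ := by
    have := S.card_pair_cent C 0
    simpa [hcτ, hnτ] using this
  have hcσe : cσ = 4 * nσ := by
    have := S.card_pair_cent C 1
    simpa [hcσ, hnσ] using this
  have h2n : 2 ^ n = 4 * h := by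
    have := S.hn
    rw [hh, show (4 : ℕ) = 2 ^ 2 from rfl, ← pow_add]; congr 1; omega
  have hcJe : cJ = 4 * h * Nat.card K := by rw [hcJ, C.card, h2n]
  have hG : Q.card * cJ = Nat.card G := card_cls_mul (J n σ)
  have hQpos : 0 < Q.card := Finset.card_pos.mpr ⟨J n σ, mem_cls.mpr (IsConj.refl _)⟩
  have hcJpos : 0 < cJ := Nat.card_pos
  have hcτpos : 0 < cτ := Nat.card_pos
  have hcσpos : 0 < cσ := Nat.card_pos
  -- transfer to the rationals
  have key : (Q.card : ℚ) * (-1 - (δ₁ : ℚ) / x + 4 * (δ₁ : ℚ) / y) =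
      -2 * ((h : ℚ) * (A + B)) ^ 2 := by
    have hc' : (Q.card : ℂ) * (-1 - (δ₁ : ℂ) / x + 4 * (δ₁ : ℂ) / y) =
        -2 * ((h : ℂ) * (A + B)) ^ 2 := by
      refine mul_left_cancel₀ (Nat.cast_ne_zero.mpr hQpos.ne') ?_
      rw [← mul_assoc, ← pow_two]
      exact hcount
    apply (Rat.cast_injective (α := ℂ))
    push_cast
    exact hc'
  have hAB : (h : ℚ) * (A + B) = cJ * (1 / (cτ : ℚ) + 1 / cσ) := by
    have e1 : (A : ℚ) * nτ = Nat.card K := by exact_mod_cast hAe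
    have e2 : (B : ℚ) * nσ = Nat.card K := by exact_mod_cast hBe
    have p1 : (nτ : ℚ) ≠ 0 := Nat.cast_ne_zero.mpr hnpos.1.ne'
    have p2 : (nσ : ℚ) ≠ 0 := Nat.cast_ne_zero.mpr hnpos.2.ne'
    rw [hcτe, hcσe, hcJe]
    push_cast
    rw [show (A : ℚ) = Nat.card K / nτ from (eq_div_iff p1).mpr e1,
      show (B : ℚ) = Nat.card K / nσ from (eq_div_iff p2).mpr e2]
    field_simp
  rw [hAB] at key
  have hrelQ : 1 + (δ₁ : ℚ) * x = (δ₁ : ℚ) * y := by
    apply (Rat.cast_injective (α := ℂ))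
    push_cast
    exact hrel
  have hxQ : (x : ℚ) ≠ 0 := Nat.cast_ne_zero.mpr fun e => hx0 (by rw [e, Nat.cast_zero])
  have hyQ : (y : ℚ) ≠ 0 := Nat.cast_ne_zero.mpr fun e => hy0 (by rw [e, Nat.cast_zero])
  have hd2 : (δ₁ : ℚ) * δ₁ = 1 := by rcases hδ₁ with e | e <;> rw [e] <;> norm_num
  have hyval : (y : ℚ) = x + δ₁ := by
    linear_combination (-(δ₁ : ℚ)) * hrelQ + (x - y : ℚ) * hd2
  have hexp : -1 - (δ₁ : ℚ) / x + 4 * (δ₁ : ℚ) / y =
      -((x : ℚ) - δ₁) ^ 2 / (x * (x + δ₁)) := by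
    have : (x : ℚ) + δ₁ ≠ 0 := hyval ▸ hyQ
    rw [hyval]
    field_simp
    linear_combination (0 : ℚ) * hd2
  rw [hexp] at key
  have hsumpos : (0 : ℚ) < cJ * (1 / (cτ : ℚ) + 1 / cσ) := by positivity
  have hxne : (x : ℤ) ≠ δ₁ := by
    intro e
    have e' : (x : ℚ) = δ₁ := by exact_mod_cast e
    rw [← e', sub_self, zero_pow (by norm_num), neg_zero, zero_div] at key
    exact (pow_pos hsumpos 2).ne' (by linarith)
  refine ⟨hxne, ?_⟩
  have hden : (x : ℚ) * (x + δ₁) ≠ 0 := mul_ne_zero hxQ (hyval ▸ hyQ)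
  rw [div_eq_mul_inv, ← mul_assoc, mul_inv_eq_iff_eq_mul₀ hden] at key
  rw [← hG, Nat.cast_mul]
  linear_combination (-(cJ : ℚ)) * key

end Setup

end Cfsg.Agent.ZStar.Dih
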