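import Cfsg.Agent.ZStar.DihedralBlock.Sections

/-!
# The centralizer of the central involution: involutions in the reflection cosets
-/

set_option autoImplicit false
set_option linter.unusedSectionVars false
set_option linter.style.haveILetI false

open Cfsg

namespace Cfsg.Agent.ZStar.Dih

variable {G : Type*} [Group G] [Fintype G] {P : Sylow 2 G} {n : ℕ} {σ τ : G}

/-- The data of the centralizer of the central involution. -/
structure Core (P : Sylow 2 G) (n : ℕ) (σ : G) (K : Subgroup G) : Prop where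
  le : K ≤ Subgroup.centralizer ({J n σ} : Set G)
  normal : Subgroup.centralizer ({J n σ} : Set G) ≤ Subgroup.normalizer (K : Set G)
  odd : ∀ k ∈ K, Odd (orderOf k)
  card : Nat.card (Subgroup.centralizer ({J n σ} : Set G)) = 2 ^ n * Nat.card K
  reg : ∀ c ∈ Subgroup.centralizer ({J n σ} : Set G), Odd (orderOf c) → c ∈ K
  decomp : ∀ c ∈ Subgroup.centralizer ({J n σ} : Set G), ∃ r ∈ (P : Subgroup G), ∃ k ∈ K, c = r * k

namespace Setup

variable (S : Setup P n σ τ)
include S

theorem J_sq : J n σ * J n σ = 1 := by rw [← pow_two, ← S.orderOf_J, pow_orderOf_eq_one]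

theorem J_inv : (J n σ)⁻¹ = J n σ := inv_eq_of_mul_eq_one_right S.J_sq

theorem sylow_le_cent : (P : Subgroup G) ≤ Subgroup.centralizer ({J n σ} : Set G) := fun _ hp =>
  Subgroup.mem_centralizer_singleton_iff.mpr (S.J_comm hp)

theorem exists_core : ∃ K : Subgroup G, Core P n σ K := by
  obtain ⟨K, hK, hcard, hreg, hdec⟩ := S.sectionData S.J_mem S.J_ne
  rw [centCard, if_pos S.J_sq] at hcard
  refine ⟨K, hK.le, hK.normal, fun k hk => ?_, hcard, hreg, fun c hc => ?_⟩
  · rw [← Nat.not_even_iff_odd, even_iff_two_dvd]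
    exact fun h => hK.coprime (h.trans (Subgroup.orderOf_dvd_natCard K hk))
  · obtain ⟨r, hr, -, k, hk, e⟩ := hdec c hc
    exact ⟨r, hr, k, hk, e⟩

variable {K : Subgroup G} (C : Core P n σ K)
include C

theorem eq_one_of_mem_both {p : G} (hp : p ∈ (P : Subgroup G)) (hk : p ∈ K) : p = 1 := by
  obtain ⟨i, hi⟩ := P.2 ⟨p, hp⟩
  exact eq_one_of_pow_odd (congrArg Subtype.val hi) (pow_orderOf_eq_one p)
    ((C.odd p hk).coprime_two_left.pow_left i)

theorem unique_decomp {r r' k k' : G} (hr : r ∈ (P : Subgroup G)) (hr' : r' ∈ (P : Subgroup G))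
    (hk : k ∈ K) (hk' : k' ∈ K) (h : r * k = r' * k') : r = r' ∧ k = k' := by
  have e : r'⁻¹ * r = k' * k⁻¹ := by
    rw [eq_mul_inv_iff_mul_eq, mul_assoc, h, inv_mul_cancel_left]
  have h1 : r = r' := (inv_mul_eq_one.mp (S.eq_one_of_mem_both C (mul_mem (inv_mem hr') hr)
    (e ▸ mul_mem hk' (inv_mem hk)))).symm
  exact ⟨h1, mul_left_cancel (h1 ▸ h)⟩

theorem conj_mem {c k : G} (hc : c ∈ Subgroup.centralizer ({J n σ} : Set G)) (hk : k ∈ K) :
    c * k * c⁻¹ ∈ K := (Subgroup.mem_normalizer_iff.mp (C.normal hc) k).mp hk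

theorem refl_mem (a : ℤ) : σ ^ a * τ ∈ (P : Subgroup G) :=
  mul_mem (zpow_mem S.hσ a) S.hτ

/-- An involution in a reflection coset is conjugate to the reflection. -/
theorem exists_conj_of_sq {y k : G} (hy : y ∈ (P : Subgroup G)) (hy2 : y * y = 1) (hk : k ∈ K)
    (h : (y * k) * (y * k) = 1) : ∃ s ∈ K, s⁻¹ * y * s = y * k := by
  obtain ⟨o, ho⟩ := C.odd k hk
  have hyi : y⁻¹ = y := inv_eq_of_mul_eq_one_right hy2
  have hinv : y * k * y⁻¹ = k⁻¹ := by
    rw [hyi]
    exact eq_inv_of_mul_eq_one_left (by rw [mul_assoc]; exact h)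
  have hs2 : k ^ (o + 1) * k ^ (o + 1) = k := by
    rw [← pow_add, show o + 1 + (o + 1) = (2 * o + 1) + 1 by ring, pow_succ, ← ho,
      pow_orderOf_eq_one, one_mul]
  refine ⟨k ^ (o + 1), Subgroup.pow_mem _ hk _, ?_⟩
  have hs : y * k ^ (o + 1) * y⁻¹ = (k ^ (o + 1))⁻¹ := by rw [← conj_pow, hinv, inv_pow]
  rw [← hs, show y * k ^ (o + 1) * y⁻¹ * y * k ^ (o + 1) = y * (k ^ (o + 1) * k ^ (o + 1)) by group,
    hs2]

open scoped Classical in
/-- The number of involutions in a reflection coset times the fixed points. -/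
theorem card_coset_invol {y : G} (hy : y ∈ (P : Subgroup G)) (hy2 : y * y = 1) :
    (Finset.univ.filter fun i : G => i * i = 1 ∧ ∃ k ∈ K, i = y * k).card *
      Nat.card (K ⊓ Subgroup.centralizer ({y} : Set G) : Subgroup G) = Nat.card K := by
  set I := Finset.univ.filter fun i : G => i * i = 1 ∧ ∃ k ∈ K, i = y * k with hI
  set L := Finset.univ.filter fun s : G => s ∈ K with hL
  have hLc : L.card = Nat.card K := by
    rw [Nat.card_eq_fintype_card, Fintype.card_subtype]
  have hmaps : ∀ s ∈ L, s⁻¹ * y * s ∈ I := by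
    intro s hs
    have hsK : s ∈ K := (Finset.mem_filter.mp hs).2
    refine Finset.mem_filter.mpr ⟨Finset.mem_univ _, ?_, y⁻¹ * s⁻¹ * y * s, ?_, by group⟩
    · rw [show s⁻¹ * y * s * (s⁻¹ * y * s) = s⁻¹ * (y * y) * s by group, hy2]; group
    · refine mul_mem ?_ hsK
      have := S.conj_mem C (S.sylow_le_cent (Subgroup.inv_mem _ hy)) (Subgroup.inv_mem _ hsK)
      simpa using this
  rw [← hLc, Finset.card_eq_sum_card_fiberwise hmaps, Finset.sum_const_nat]
  intro i hi
  obtain ⟨-, hi2, k, hk, rfl⟩ := Finset.mem_filter.mp hi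
  obtain ⟨s, hs, hse⟩ := S.exists_conj_of_sq C hy hy2 hk hi2
  rw [Nat.card_eq_fintype_card, Fintype.card_subtype]
  refine Finset.card_bij' (fun t _ => t * s⁻¹) (fun t _ => t * s) ?_ ?_ ?_ ?_
  · intro t ht
    obtain ⟨htL, hte⟩ := Finset.mem_filter.mp ht
    have htK : t ∈ K := (Finset.mem_filter.mp htL).2
    refine Finset.mem_filter.mpr ⟨Finset.mem_univ _, Subgroup.mul_mem _ htK (Subgroup.inv_mem _ hs),
      Subgroup.mem_centralizer_singleton_iff.mpr ?_⟩
    rw [← hse] at hte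
    calc t * s⁻¹ * y = t * (s⁻¹ * y * s) * s⁻¹ := by group
      _ = t * (t⁻¹ * y * t) * s⁻¹ := by rw [hte]
      _ = y * (t * s⁻¹) := by group
  · intro t ht
    obtain ⟨-, htK, htc⟩ := Finset.mem_filter.mp ht
    refine Finset.mem_filter.mpr ⟨Finset.mem_filter.mpr ⟨Finset.mem_univ _, mul_mem htK hs⟩, ?_⟩
    rw [show (t * s)⁻¹ * y * (t * s) = s⁻¹ * (t⁻¹ * (y * t)) * s by group,
      ← Subgroup.mem_centralizer_singleton_iff.mp htc, inv_mul_cancel_left, hse]
  · intro t _; rw [inv_mul_cancel_right]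
  · intro t _; rw [mul_inv_cancel_right]

theorem card_cent_step (a : ℤ) :
    Nat.card (K ⊓ Subgroup.centralizer ({σ ^ (a + 2) * τ} : Set G) : Subgroup G) =
      Nat.card (K ⊓ Subgroup.centralizer ({σ ^ a * τ} : Set G) : Subgroup G) := by
  have hσC := S.sylow_le_cent S.hσ
  have he : σ * (σ ^ a * τ) * σ⁻¹ = σ ^ (a + 2) * τ := by
    rw [show σ * (σ ^ a * τ) * σ⁻¹ = σ * σ ^ a * (τ * σ ^ (-1 : ℤ)) by group, S.tau_mul_zpow]
    group
  refine (Nat.card_congr ((MulAut.conj σ).toEquiv.subtypeEquiv fun t => ?_)).symm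
  show (t ∈ K ∧ t ∈ Subgroup.centralizer ({σ ^ a * τ} : Set G)) ↔
    (σ * t * σ⁻¹ ∈ K ∧ σ * t * σ⁻¹ ∈ Subgroup.centralizer ({σ ^ (a + 2) * τ} : Set G))
  rw [Subgroup.mem_centralizer_singleton_iff, Subgroup.mem_centralizer_singleton_iff, ← he,
    Subgroup.mem_normalizer_iff.mp (C.normal hσC) t]
  refine and_congr Iff.rfl ⟨fun h => ?_, fun h => ?_⟩
  · rw [conj_mul, conj_mul, h]
  · rw [conj_mul, conj_mul] at h
    exact mul_left_cancel (mul_right_cancel h)

theorem natCard_cent_refl (a : ℕ) :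
    Nat.card (K ⊓ Subgroup.centralizer ({σ ^ a * τ} : Set G) : Subgroup G) =
      if Even a then Nat.card (K ⊓ Subgroup.centralizer ({τ} : Set G) : Subgroup G)
      else Nat.card (K ⊓ Subgroup.centralizer ({σ * τ} : Set G) : Subgroup G) := by
  induction a using Nat.twoStepInduction with
  | zero => simp
  | one => simp
  | more a ih _ =>
    have h := S.card_cent_step C (a : ℤ)
    rw [show ((a : ℤ) + 2) = ((a + 2 : ℕ) : ℤ) by push_cast; ring, zpow_natCast,
      zpow_natCast] at h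
    rw [h, ih]
    simp [Nat.even_add]

/-- The joint centralizer of the central involution and a reflection. -/
theorem card_pair_cent (a : ℤ) :
    Nat.card (Subgroup.centralizer ({J n σ, σ ^ a * τ} : Set G)) =
      4 * Nat.card (K ⊓ Subgroup.centralizer ({σ ^ a * τ} : Set G) : Subgroup G) := by
  classical
  set y := σ ^ a * τ with hy
  set V := (P : Subgroup G) ⊓ Subgroup.centralizer ({y} : Set G) with hV
  set L := K ⊓ Subgroup.centralizer ({y} : Set G) with hL
  have hyP : y ∈ (P : Subgroup G) := S.refl_mem C a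
  have hyy : y * y = 1 := S.refl_sq a
  have hpair : ∀ g, g ∈ Subgroup.centralizer ({J n σ, y} : Set G) ↔
      g * J n σ = J n σ * g ∧ g * y = y * g := fun g => by
    rw [Subgroup.mem_centralizer_iff]
    constructor
    · intro h
      exact ⟨(h _ (Set.mem_insert _ _)).symm, (h _ (Set.mem_insert_of_mem _ rfl)).symm⟩
    · rintro ⟨h1, h2⟩ z (rfl | rfl)
      exacts [h1.symm, h2.symm]
  have hsplit : ∀ g, g * J n σ = J n σ * g → g * y = y * g →
      ∃ r ∈ V, ∃ k ∈ L, g = r * k := by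
    intro g h1 h2
    obtain ⟨r, hr, k, hk, rfl⟩ := C.decomp g (Subgroup.mem_centralizer_singleton_iff.mpr h1)
    have hyk : y⁻¹ * k * y ∈ K := by
      simpa using S.conj_mem C (S.sylow_le_cent (inv_mem hyP)) hk
    have h3 : y⁻¹ * r * y * (y⁻¹ * k * y) = r * k := by
      rw [show y⁻¹ * r * y * (y⁻¹ * k * y) = y⁻¹ * (r * k * y) by group, h2, inv_mul_cancel_left]
    obtain ⟨e1, e2⟩ := S.unique_decomp C (mul_mem (mul_mem (inv_mem hyP) hr) hyP) hr hyk hk h3
    have f1 : r * y = y * r := by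
      conv_rhs => rw [← e1]
      group
    have f2 : k * y = y * k := by
      conv_rhs => rw [← e2]
      group
    exact ⟨r, ⟨hr, Subgroup.mem_centralizer_singleton_iff.mpr f1⟩, k,
      ⟨hk, Subgroup.mem_centralizer_singleton_iff.mpr f2⟩, rfl⟩
  have hbij : Nat.card (Subgroup.centralizer ({J n σ, y} : Set G)) = Nat.card V * Nat.card L := by
    rw [← Nat.card_prod]
    refine (Nat.card_eq_of_bijective
      (fun q : V × L => (⟨(q.1 : G) * q.2, (hpair _).mpr ⟨?_, ?_⟩⟩ :
        Subgroup.centralizer ({J n σ, y} : Set G))) ⟨?_, ?_⟩).symm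
    · exact Subgroup.mem_centralizer_singleton_iff.mp
        (mul_mem (S.sylow_le_cent q.1.2.1) (C.le q.2.2.1))
    · exact Subgroup.mem_centralizer_singleton_iff.mp (mul_mem q.1.2.2 q.2.2.2)
    · intro q q' h
      obtain ⟨e1, e2⟩ := S.unique_decomp C q.1.2.1 q'.1.2.1 q.2.2.1 q'.2.2.1
        (congrArg Subtype.val h)
      exact Prod.ext (Subtype.ext e1) (Subtype.ext e2)
    · rintro ⟨g, hg⟩
      obtain ⟨r, hr, k, hk, rfl⟩ := hsplit g ((hpair g).mp hg).1 ((hpair g).mp hg).2
      exact ⟨(⟨r, hr⟩, ⟨k, hk⟩), rfl⟩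
  rw [hbij]
  congr 1
  have hTfix : ∀ x ∈ Subgroup.zpowers σ, x * y = y * x → x = 1 ∨ x = J n σ := by
    intro x hx hxy
    obtain ⟨b, rfl⟩ := hx
    by_cases h1 : σ ^ b = 1
    · exact Or.inl h1
    · refine Or.inr (S.eq_J_of_sq (Subgroup.zpow_mem_zpowers σ b) ?_ h1)
      have hc := S.refl_conj a b
      rw [← hy, ← hxy, mul_inv_cancel_right] at hc
      nth_rewrite 1 [hc]
      rw [zpow_neg, inv_mul_cancel]
  have hVset : (V : Set G) = ↑({1, J n σ, y, J n σ * y} : Finset G) := by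
    ext p
    simp only [Finset.coe_insert, Finset.coe_singleton, Set.mem_insert_iff, Set.mem_singleton_iff,
      SetLike.mem_coe, hV, Subgroup.mem_inf, Subgroup.mem_centralizer_singleton_iff]
    constructor
    · rintro ⟨hp, hpy⟩
      rcases S.mem_cases hp with hpT | ⟨b, hb⟩
      · rcases hTfix p hpT hpy with h | h
        · exact Or.inl h
        · exact Or.inr (Or.inl h)
      · have hpyT : p * y ∈ Subgroup.zpowers σ := by
          refine ⟨b + -a, ?_⟩
          show σ ^ (b + -a) = p * y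
          rw [hb, hy, show σ ^ b * τ * (σ ^ a * τ) = σ ^ b * (τ * σ ^ a) * τ by group,
            S.tau_mul_zpow, zpow_add, mul_assoc (σ ^ b), mul_assoc (σ ^ (-a)), S.tau_sq, mul_one]
        have hp' : p = p * y * y := by rw [mul_assoc, hyy, mul_one]
        rcases hTfix (p * y) hpyT (by rw [hpy, mul_assoc, hpy]) with h | h
        · exact Or.inr (Or.inr (Or.inl (by rw [hp', h, one_mul])))
        · exact Or.inr (Or.inr (Or.inr (by rw [hp', h])))
    · have hJy : J n σ * y = y * J n σ := (S.J_comm hyP).symm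
      rintro (rfl | rfl | rfl | rfl)
      · exact ⟨one_mem _, by simp⟩
      · exact ⟨S.zpowers_le S.J_mem, hJy⟩
      · exact ⟨hyP, rfl⟩
      · exact ⟨mul_mem (S.zpowers_le S.J_mem) hyP, by rw [← mul_assoc y, ← hJy]⟩
  have hyT : y ∉ Subgroup.zpowers σ := S.refl_notMem a
  have n1 : (1 : G) ≠ J n σ := S.J_ne.symm
  have n2 : (1 : G) ≠ y := fun h => hyT (h ▸ one_mem _)
  have n3 : (1 : G) ≠ J n σ * y := fun h => hyT (by
    have e : y = (J n σ)⁻¹ := eq_inv_of_mul_eq_one_right h.symm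
    rw [e]; exact Subgroup.inv_mem _ S.J_mem)
  have n4 : J n σ ≠ y := fun h => hyT (h ▸ S.J_mem)
  have n5 : J n σ ≠ J n σ * y := fun h => n2 (left_eq_mul.mp h).symm
  have n6 : y ≠ J n σ * y := fun h => n1 (right_eq_mul.mp h).symm
  rw [show Nat.card V = (V : Set G).ncard from (Nat.card_coe_set_eq _), hVset,
    Set.ncard_coe_finset]
  rw [Finset.card_insert_of_notMem (by simp [n1, n2, n3]),
    Finset.card_insert_of_notMem (by simp [n4, n5]), Finset.card_pair n6]

end Setup

end Cfsg.Agent.ZStar.Dih
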