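import Cfsg.Agent.ZStar.DihedralBlock.Sections
import Cfsg.Agent.Lib.BlocksDefect.PrincipalSection
import Cfsg.Agent.Lib.BlocksCore.SecondMain
import Cfsg.Agent.Lib.CharCore.Eigen
import Cfsg.Agent.S0939

/-!
# A dihedral Sylow 2-subgroup: columns of the principal block at rotations
-/

set_option autoImplicit false
set_option linter.unusedSectionVars false
set_option linter.style.haveILetI false

open Cfsg
open scoped ComplexConjugate

namespace Cfsg.Agent.ZStar.Dih

variable {G : Type*} [Group G] [Fintype G] {P : Sylow 2 G} {n : ℕ} {σ τ : G} {M : Ideal AlgInt}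

noncomputable instance : Fintype (IrrCharacter G) :=
  haveI := BlocksCore.finite_irr (G := G)
  Fintype.ofFinite _

open scoped Classical in
/-- The principal block as a finite set. -/
noncomputable def blk (M : Ideal AlgInt) (G : Type*) [Group G] [Fintype G] :
    Finset (IrrCharacter G) :=
  Finset.univ.filter (· ∈ principalBlock M G)

theorem mem_blk {χ : IrrCharacter G} : χ ∈ blk M G ↔ χ ∈ principalBlock M G := by
  classical
  simp [blk]

theorem finsum_blk (f : IrrCharacter G → ℂ) :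
    ∑ᶠ χ ∈ principalBlock M G, f χ = ∑ χ ∈ blk M G, f χ := by
  rw [← finsum_mem_coe_finset]
  refine finsum_mem_congr (Set.ext fun χ => ?_) fun _ _ => rfl
  rw [Finset.mem_coe, mem_blk]

/-- Squares of the degrees in the principal block of a group with a normal 2-complement. -/
theorem sum_sq_degree {H : Type*} [Group H] [Fintype H] {p : ℕ} [Fact p.Prime] {M : Ideal AlgInt}
    (hM : IsPModular p M) [Fintype (IrrCharacter H)] (N : Subgroup H) [N.Normal]
    (hN : ¬ p ∣ Nat.card N) {k : ℕ} (hk : N.index = p ^ k) :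
    ∑ η : IrrCharacter H, (principalBlock M H).indicator
      (fun η => (η : H → ℂ) 1 * (η : H → ℂ) 1⁻¹) η = (N.index : ℂ) := by
  classical
  have hle : N ≤ pPrimeCore p H := Thompson.le_pPrimeCore inferInstance
    ((Nat.Prime.coprime_iff_not_dvd Fact.out).mpr hN).symm
  have hidx : ∃ j, (pPrimeCore p H).index = p ^ j := by
    obtain ⟨j, -, hj⟩ := (Nat.dvd_prime_pow Fact.out).mp (hk ▸ Subgroup.index_dvd_of_le hle)
    exact ⟨j, hj⟩
  have hcore : pPrimeCore p H = N := by
    refine (Subgroup.eq_of_le_of_card_ge hle ?_).symm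
    refine Nat.le_of_dvd Nat.card_pos ?_
    have h1 : Nat.card (pPrimeCore p H) ∣ Nat.card N * p ^ k := by
      rw [← hk, Subgroup.card_mul_index]; exact Subgroup.card_subgroup_dvd_card _
    exact (Nat.Coprime.pow_right k ((Nat.Prime.coprime_iff_not_dvd Fact.out).mpr
      Thompson.not_dvd_card_pPrimeCore).symm).dvd_of_dvd_mul_right h1
  have hB := Cfsg.Agent.S0939.result p M hM hidx
  have hterm : ∀ η : IrrCharacter H, (principalBlock M H).indicator
      (fun η => (η : H → ℂ) 1 * (η : H → ℂ) 1⁻¹) η =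
      (Nat.card N : ℂ)⁻¹ * ∑ m : N, (η : H → ℂ) (m : H) * (η : H → ℂ) 1⁻¹ := by
    intro η
    rw [← Finset.sum_mul]
    have hne : (Nat.card N : ℂ) ≠ 0 := Nat.cast_ne_zero.mpr Nat.card_pos.ne'
    rcases BlocksDefect.omega_subInd_zero_or_one η N with h | h
    · have hnot : η ∉ principalBlock M H := by
        rw [hB]
        intro hker
        have := (BlocksDefect.omega_subInd_eq_one_iff η N).mpr (by rw [← hcore]; exact hker)
        rw [h] at this
        exact zero_ne_one this
      rw [Set.indicator_of_notMem hnot]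
      rw [BlocksDefect.omega_subInd_eq, div_eq_zero_iff] at h
      rcases (h.resolve_right (BlocksCore.irr_one_ne_zero η) |> mul_eq_zero.mp) with h1 | h1
      · exact absurd (inv_eq_zero.mp h1) hne
      · rw [h1, zero_mul, mul_zero]
    · have hmem : η ∈ principalBlock M H := by
        rw [hB]
        show ∀ m ∈ pPrimeCore p H, _
        rw [hcore]
        exact (BlocksDefect.omega_subInd_eq_one_iff η N).mp h
      rw [Set.indicator_of_mem hmem, Finset.sum_congr rfl (fun (m : N) _ =>
        (BlocksDefect.omega_subInd_eq_one_iff η N).mp h (m : H) m.2), Finset.sum_const,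
        Finset.card_univ, ← Nat.card_eq_fintype_card, nsmul_eq_mul, mul_assoc, inv_mul_cancel_left₀ hne]
  rw [Finset.sum_congr rfl fun η _ => hterm η, ← Finset.mul_sum, Finset.sum_comm,
    Finset.sum_eq_single (1 : N)]
  · rw [OneMemClass.coe_one, BlocksDefect.sum_irr_mul_inv, if_pos (IsConj.refl _)]
    have : Subgroup.centralizer ({(1 : H)} : Set H) = ⊤ := eq_top_iff.mpr fun g _ =>
      Subgroup.mem_centralizer_singleton_iff.mpr (by simp)
    rw [this, Subgroup.card_top, ← Subgroup.card_mul_index N, Nat.cast_mul, ← mul_assoc,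
      inv_mul_cancel₀ (Nat.cast_ne_zero.mpr Nat.card_pos.ne'), one_mul]
  · intro m _ hm
    rw [BlocksDefect.sum_irr_mul_inv, if_neg fun h => hm (Subtype.ext (isConj_one_left.mp h))]
  · exact fun h => absurd (Finset.mem_univ _) h

theorem isPPart_self {x : G} {k : ℕ} (hx : orderOf x = 2 ^ k) : IsPPart 2 x x :=
  ⟨1, mul_one x, Commute.one_right x, ⟨k, hx⟩, by rw [orderOf_one]; norm_num⟩

namespace Setup

variable (S : Setup P n σ τ)
include S

theorem irr_inv {x : G} (hx : x ∈ Subgroup.zpowers σ) (χ : IrrCharacter G) :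
    (χ : G → ℂ) x⁻¹ = (χ : G → ℂ) x := by
  rcases S.conj_eq_or hx S.hτ with ⟨h, -⟩ | ⟨-, h⟩
  · exact absurd h S.tau_notMem
  · rw [← h]; exact BlocksCore.irr_class χ x τ

theorem exists_orderOf_rot {x : G} (hx : x ∈ Subgroup.zpowers σ) : ∃ k, orderOf x = 2 ^ k := by
  haveI : Fact (Nat.Prime 2) := ⟨Nat.prime_two⟩
  obtain ⟨j, hj⟩ := P.2 ⟨x, S.zpowers_le hx⟩
  exact exists_orderOf_eq_prime_pow_iff.mpr ⟨j, congrArg Subtype.val hj⟩

/-- The values on a section of a rotation. -/
theorem apply_section (hM : IsPModular 2 M) {x v : G} (hx : x ∈ Subgroup.zpowers σ) (hx1 : x ≠ 1)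
    (hv : Commute x v) (hodd : ¬ 2 ∣ orderOf v) {χ : IrrCharacter G} (hχ : χ ∈ blk M G) :
    (χ : G → ℂ) (x * v) = (χ : G → ℂ) x := by
  haveI : Fact (Nat.Prime 2) := ⟨Nat.prime_two⟩
  classical
  obtain ⟨K, hK, -, hreg, -⟩ := S.sectionData hx hx1
  exact apply_mul_eq hM hK (mem_blk.mp hχ) (hreg v
    (Subgroup.mem_centralizer_singleton_iff.mpr hv.eq.symm)
    (Nat.odd_iff.mpr (Nat.two_dvd_ne_zero.mp hodd)))

theorem sum_sq (hM : IsPModular 2 M) {x : G} (hx : x ∈ Subgroup.zpowers σ) (hx1 : x ≠ 1) :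
    ∑ χ ∈ blk M G, (χ : G → ℂ) x * (χ : G → ℂ) x = (centCard n x : ℂ) := by
  classical
  haveI : Fact (Nat.Prime 2) := ⟨Nat.prime_two⟩
  obtain ⟨K, hK, hcard, -, -⟩ := S.sectionData hx hx1
  obtain ⟨k, hk⟩ := S.exists_orderOf_rot hx
  set C := Subgroup.centralizer ({x} : Set G)
  haveI : Fintype C := Fintype.ofFinite _
  haveI : (K.subgroupOf C).Normal := Subgroup.normal_subgroupOf_of_le_normalizer hK.normal
  have h := BlocksDefect.sum_principal_section_norm hM hk (1 : C) (by rw [orderOf_one]; norm_num)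
  simp only [OneMemClass.coe_one, mul_one] at h
  rw [blk, Finset.sum_filter]
  refine (Finset.sum_congr rfl fun χ _ => ?_).trans (h.trans ?_)
  · rw [Set.indicator_apply]
    exact if_congr Iff.rfl (by rw [S.irr_inv hx]) rfl
  have hN : Nat.card (K.subgroupOf C) = Nat.card K :=
    Nat.card_congr (Subgroup.subgroupOfEquivOfLe hK.le).toEquiv
  have hidx : (K.subgroupOf C).index = centCard n x := by
    have h1 := Subgroup.card_mul_index (K.subgroupOf C)
    rw [hN, hcard, mul_comm (centCard n x)] at h1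
    exact mul_left_cancel₀ Nat.card_pos.ne' h1
  obtain ⟨j, hj⟩ : ∃ j, centCard n x = 2 ^ j := by
    rw [centCard]; split_ifs <;> exact ⟨_, rfl⟩
  rw [sum_sq_degree hM (K.subgroupOf C) (by rw [hN]; exact hK.coprime) (hidx.trans hj), hidx]

open scoped Classical in
theorem sum_col (hM : IsPModular 2 M) {x y : G} (hx : x ∈ Subgroup.zpowers σ) (hx1 : x ≠ 1)
    (hy : y ∈ Subgroup.zpowers σ) :
    ∑ χ ∈ blk M G, (χ : G → ℂ) x * (χ : G → ℂ) y =
      if y = x ∨ y = x⁻¹ then (centCard n x : ℂ) else 0 := by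
  haveI : Fact (Nat.Prime 2) := ⟨Nat.prime_two⟩
  split_ifs with h
  · rw [← S.sum_sq hM hx hx1]
    refine Finset.sum_congr rfl fun χ _ => ?_
    rcases h with rfl | rfl
    · rfl
    · rw [S.irr_inv hx]
  · obtain ⟨a, ha⟩ := S.exists_orderOf_rot hx
    obtain ⟨b, hb⟩ := S.exists_orderOf_rot hy
    have := BlocksCore.blockOrth_sections hM BlocksDefect.isPBlock_principal (isPPart_self ha)
      (isPPart_self hb) (fun hc => h (S.fusion hx hy hc))
    rw [finsum_blk] at this
    rw [← this]
    exact Finset.sum_congr rfl fun χ _ => by rw [S.irr_inv hy]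

theorem sum_off (hM : IsPModular 2 M) {x g g₂ : G} (hx : x ∈ Subgroup.zpowers σ)
    (hg : IsPPart 2 g g₂) (hnc : ¬ IsConj g₂ x) :
    ∑ χ ∈ blk M G, (χ : G → ℂ) g * (χ : G → ℂ) x = 0 := by
  haveI : Fact (Nat.Prime 2) := ⟨Nat.prime_two⟩
  obtain ⟨a, ha⟩ := S.exists_orderOf_rot hx
  have := BlocksCore.blockOrth_sections hM BlocksDefect.isPBlock_principal hg (isPPart_self ha) hnc
  rw [finsum_blk] at this
  rw [← this]
  exact Finset.sum_congr rfl fun χ _ => by rw [S.irr_inv hx]

end Setup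

end Cfsg.Agent.ZStar.Dih
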