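import Cfsg.Agent.ZStar.DihedralBlock.Columns
import Mathlib.RingTheory.RootsOfUnity.Complex

/-!
# A dihedral Sylow 2-subgroup: the multiplicity vectors
-/

set_option autoImplicit false
set_option linter.unusedSectionVars false
set_option linter.style.haveILetI false

open Cfsg
open scoped ComplexConjugate

namespace Cfsg.Agent.ZStar.Dih

variable {G : Type*} [Group G] [Fintype G] {P : Sylow 2 G} {n : ℕ} {σ τ : G} {M : Ideal AlgInt}
  {ζ : ℂ} {m : ℕ}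

/-- The test function `ζ^(jl) + ζ^(-jl) - 2`. -/
noncomputable def F (ζ : ℂ) (j l : ℕ) : ℂ := ζ ^ (j * l) + (ζ ^ (j * l))⁻¹ - 2

theorem F_zero (j : ℕ) : F ζ j 0 = 0 := by simp [F]; norm_num

theorem geom_sum_root (hζ : IsPrimitiveRoot ζ m) (a : ℤ) :
    ∑ l ∈ Finset.range m, (ζ ^ a) ^ l = if (m : ℤ) ∣ a then (m : ℂ) else 0 := by
  split_ifs with h
  · rw [(hζ.zpow_eq_one_iff_dvd a).mpr h]; simp
  · have hne : ζ ^ a ≠ 1 := fun e => h ((hζ.zpow_eq_one_iff_dvd a).mp e)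
    have h1 := geom_sum_mul (ζ ^ a) m
    have hm : (ζ ^ a) ^ m = 1 := by
      rw [← zpow_natCast, ← zpow_mul, hζ.zpow_eq_one_iff_dvd]
      exact Dvd.intro_left _ rfl
    rw [hm, sub_self] at h1
    exact (mul_eq_zero.mp h1).resolve_right (sub_ne_zero.mpr hne)

theorem F_eq_zpow (j l : ℕ) : F ζ j l = (ζ ^ (j : ℤ)) ^ l + (ζ ^ (-(j : ℤ))) ^ l - 2 := by
  simp [F, pow_mul, inv_pow]

theorem sum_F (hζ : IsPrimitiveRoot ζ m) {j : ℕ} (h0 : 0 < j) (hj : j < m) :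
    ∑ l ∈ Finset.range m, F ζ j l = -2 * (m : ℂ) := by
  simp only [F_eq_zpow, Finset.sum_sub_distrib, Finset.sum_add_distrib, geom_sum_root hζ,
    Finset.sum_const, Finset.card_range, nsmul_eq_mul]
  have hnd : ¬ (m : ℤ) ∣ (j : ℤ) := by
    rw [Int.natCast_dvd_natCast]; exact fun h => absurd (Nat.le_of_dvd h0 h) (by omega)
  rw [if_neg hnd, if_neg (by rwa [dvd_neg])]
  ring

theorem sum_F_mul (hζ : IsPrimitiveRoot ζ m) {j k : ℕ} (hj0 : 0 < j) (hk0 : 0 < k)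
    (hj : 2 * j ≤ m) (hk : 2 * k ≤ m) :
    ∑ l ∈ Finset.range m, F ζ j l * F ζ k l =
      2 * (m : ℂ) * ((if j + k = m then 1 else 0) + (if j = k then 1 else 0) + 2) := by
  have hm0 : m ≠ 0 := by omega
  have hζ0 : ζ ≠ 0 := hζ.ne_zero hm0
  have e : ∀ l, F ζ j l * F ζ k l =
      (ζ ^ ((j : ℤ) + k)) ^ l + (ζ ^ (-((j : ℤ) + k))) ^ l + (ζ ^ ((j : ℤ) - k)) ^ l +
        (ζ ^ (-((j : ℤ) - k))) ^ l - 2 * F ζ j l - 2 * F ζ k l - 4 := by
    intro l
    simp only [F_eq_zpow, zpow_add₀ hζ0, zpow_sub₀ hζ0, neg_add, neg_sub, zpow_neg, mul_pow,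
      div_pow, inv_pow]
    field_simp
    ring
  simp only [e, Finset.sum_sub_distrib, Finset.sum_add_distrib, geom_sum_root hζ, ← Finset.mul_sum,
    sum_F hζ hj0 (by omega : j < m), sum_F hζ hk0 (by omega : k < m), Finset.sum_const,
    Finset.card_range, nsmul_eq_mul, dvd_neg]
  have h1 : (m : ℤ) ∣ (j : ℤ) + k ↔ j + k = m := by
    rw [← Nat.cast_add, Int.natCast_dvd_natCast]
    refine ⟨fun h => ?_, fun h => h ▸ dvd_rfl⟩
    obtain ⟨c, hc⟩ := h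
    match c with
    | 0 => omega
    | 1 => omega
    | c + 2 =>
      have : m * 2 ≤ m * (c + 2) := Nat.mul_le_mul_left _ (by omega)
      omega
  have h2 : (m : ℤ) ∣ (j : ℤ) - k ↔ j = k := by
    refine ⟨fun h => ?_, fun h => by rw [h, sub_self]; exact dvd_zero _⟩
    have := Int.eq_zero_of_dvd_of_natAbs_lt_natAbs h (by omega)
    omega
  simp only [h1, h2]
  split_ifs <;> ring

/-- Multiplicities of the powers of `ζ` among the eigenvalues at `σ`. -/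
theorem exists_mult {σ : G} (hζ : IsPrimitiveRoot ζ m) (hm : 0 < m) (hσ : orderOf σ = m)
    (χ : IrrCharacter G) :
    ∃ r : ℕ → ℤ, ∀ l : ℕ,
      (χ : G → ℂ) (σ ^ l) = ∑ j ∈ Finset.range m, (r j : ℂ) * (ζ ^ j) ^ l := by
  classical
  obtain ⟨f, d, ρ, hρ, hf⟩ := χ
  subst hf
  obtain ⟨b, ω, hω, -, -, hk⟩ := CharCore.exists_eigenvalues ρ σ
  haveI : NeZero m := ⟨hm.ne'⟩
  have hsel : ∀ i, ∃ j < m, ω i = ζ ^ j := fun i => by
    obtain ⟨j, hj, e⟩ := hζ.eq_pow_of_pow_eq_one (hσ ▸ hω i)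
    exact ⟨j, hj, e.symm⟩
  choose e he heq using hsel
  refine ⟨fun j => ((Finset.univ.filter fun i => e i = j).card : ℤ), fun l => ?_⟩
  show ρ.character (σ ^ l) = _
  rw [hk, ← Finset.sum_fiberwise_of_maps_to (g := e) (t := Finset.range m)
    (fun i _ => Finset.mem_range.mpr (he i))]
  refine Finset.sum_congr rfl fun j _ => ?_
  rw [Finset.sum_congr rfl (g := fun _ => (ζ ^ j) ^ l) (fun i hi => by
    rw [heq i, (Finset.mem_filter.mp hi).2]), Finset.sum_const, nsmul_eq_mul]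
  push_cast
  rfl

/-- The defining properties of the difference vectors. -/
structure Vec (n : ℕ) (σ : G) (ζ : ℂ) (u : IrrCharacter G → ℕ → ℤ) : Prop where
  formula : ∀ χ : IrrCharacter G, ∀ j < 2 ^ (n - 1),
    (2 * (2 ^ (n - 1) : ℕ) : ℂ) * (u χ j : ℂ) =
      ∑ l ∈ Finset.range (2 ^ (n - 1)), F ζ j l * (χ : G → ℂ) (σ ^ l)
  value : ∀ χ : IrrCharacter G, ∀ l : ℕ, ¬ 2 ^ (n - 1) ∣ l →
    (χ : G → ℂ) (σ ^ l) = ∑ j ∈ Finset.range (2 ^ (n - 1)), (u χ j : ℂ) * (ζ ^ j) ^ l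

namespace Setup

variable (S : Setup P n σ τ)
include S

theorem exists_vec (hζ : IsPrimitiveRoot ζ (2 ^ (n - 1))) :
    ∃ u : IrrCharacter G → ℕ → ℤ, Vec n σ ζ u := by
  classical
  have hm0 : 0 < 2 ^ (n - 1) := by positivity
  choose r hr using fun χ => exists_mult hζ hm0 S.ord χ
  set m := 2 ^ (n - 1) with hm
  have hζ0 : ζ ≠ 0 := hζ.ne_zero hm0.ne'
  have hmult : ∀ χ, ∀ j < m, (m : ℂ) * r χ j =
      ∑ l ∈ Finset.range m, (χ : G → ℂ) (σ ^ l) * (ζ ^ (-(j : ℤ))) ^ l := by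
    intro χ j hj
    simp only [hr, Finset.sum_mul]
    rw [Finset.sum_comm, Finset.sum_eq_single j]
    · have : ∀ l, (r χ j : ℂ) * (ζ ^ j) ^ l * (ζ ^ (-(j : ℤ))) ^ l = r χ j := fun l => by
        rw [mul_assoc, ← mul_pow, zpow_neg, zpow_natCast, mul_inv_cancel₀ (pow_ne_zero _ hζ0),
          one_pow, mul_one]
      rw [Finset.sum_congr rfl fun l _ => this l, Finset.sum_const, Finset.card_range, nsmul_eq_mul]
    · intro i hi hij
      have : ∀ l, (r χ i : ℂ) * (ζ ^ i) ^ l * (ζ ^ (-(j : ℤ))) ^ l =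
          (r χ i : ℂ) * (ζ ^ ((i : ℤ) - j)) ^ l := fun l => by
        rw [mul_assoc, ← mul_pow, sub_eq_add_neg, zpow_add₀ hζ0, zpow_natCast]
      rw [Finset.sum_congr rfl fun l _ => this l, ← Finset.mul_sum, geom_sum_root hζ, if_neg,
        mul_zero]
      intro h
      have hi' := Finset.mem_range.mp hi
      have := Int.eq_zero_of_dvd_of_natAbs_lt_natAbs h (by omega)
      omega
    · exact fun h => absurd (Finset.mem_range.mpr hj) h
  have hreal : ∀ χ : IrrCharacter G, ∀ l : ℕ, conj ((χ : G → ℂ) (σ ^ l)) = (χ : G → ℂ) (σ ^ l) :=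
    fun χ l => by
      rw [BlocksCore.conj_irr, S.irr_inv (Subgroup.pow_mem _ (Subgroup.mem_zpowers σ) l)]
  have hmult' : ∀ χ, ∀ j < m, (m : ℂ) * r χ j =
      ∑ l ∈ Finset.range m, (χ : G → ℂ) (σ ^ l) * (ζ ^ (j : ℤ)) ^ l := by
    intro χ j hj
    have h := congrArg conj (hmult χ j hj)
    rw [map_mul, map_natCast, map_intCast, map_sum] at h
    rw [h]
    refine Finset.sum_congr rfl fun l _ => ?_
    rw [map_mul, hreal, map_pow, map_zpow₀, zpow_neg, ← Complex.inv_eq_conj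
      (hζ.norm'_eq_one hm0.ne'), inv_zpow, inv_inv]
  refine ⟨fun χ j => r χ j - r χ 0, ⟨fun χ j hj => ?_, fun χ l hl => ?_⟩⟩
  · have h0 := hmult χ 0 hm0
    simp only [CharP.cast_eq_zero, neg_zero, zpow_zero, one_pow, mul_one] at h0
    have hsum : ∑ l ∈ Finset.range m, F ζ j l * (χ : G → ℂ) (σ ^ l) =
        ∑ l ∈ Finset.range m, ((χ : G → ℂ) (σ ^ l) * (ζ ^ (j : ℤ)) ^ l +
          (χ : G → ℂ) (σ ^ l) * (ζ ^ (-(j : ℤ))) ^ l - 2 * (χ : G → ℂ) (σ ^ l)) :=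
      Finset.sum_congr rfl fun l _ => by rw [F_eq_zpow]; ring
    rw [hsum, Finset.sum_sub_distrib, Finset.sum_add_distrib, ← Finset.mul_sum, ← hmult χ j hj,
      ← hmult' χ j hj, ← h0, hm]
    push_cast
    ring
  · rw [hr]
    simp only [Int.cast_sub, sub_mul, Finset.sum_sub_distrib, ← Finset.mul_sum]
    have hz : ∑ j ∈ Finset.range m, (ζ ^ j) ^ l = 0 := by
      have : ∀ j : ℕ, (ζ ^ j) ^ l = (ζ ^ (l : ℤ)) ^ j := fun j => by
        rw [zpow_natCast, ← pow_mul, ← pow_mul, mul_comm]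
      rw [Finset.sum_congr rfl fun j _ => this j, geom_sum_root hζ, if_neg]
      rwa [Int.natCast_dvd_natCast]
    rw [hz, mul_zero, sub_zero]

theorem rot_ne_one {l : ℕ} (h0 : 0 < l) (hl : l < 2 ^ (n - 1)) : σ ^ l ≠ 1 := fun h => by
  have := Nat.le_of_dvd h0 (orderOf_dvd_of_pow_eq_one h)
  rw [S.ord] at this
  omega

theorem F_symm (hζ : IsPrimitiveRoot ζ (2 ^ (n - 1))) {j l l' : ℕ}
    (h : l + l' = 2 ^ (n - 1)) : F ζ j l' = F ζ j l := by
  have h1 : ζ ^ (j * l) * ζ ^ (j * l') = 1 := by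
    rw [← pow_add, ← mul_add, h, mul_comm, pow_mul, hζ.pow_eq_one, one_pow]
  rw [F, F, eq_inv_of_mul_eq_one_right h1, inv_inv]
  ring

theorem sum_F_col (hM : IsPModular 2 M) (hζ : IsPrimitiveRoot ζ (2 ^ (n - 1))) {j l₀ : ℕ}
    (h0 : 0 < l₀) (hl : l₀ < 2 ^ (n - 1)) :
    ∑ l ∈ Finset.range (2 ^ (n - 1)),
        F ζ j l * ∑ χ ∈ blk M G, (χ : G → ℂ) (σ ^ l₀) * (χ : G → ℂ) (σ ^ l) =
      2 * (2 ^ (n - 1) : ℕ) * F ζ j l₀ := by
  classical
  set m := 2 ^ (n - 1) with hm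
  have hx : σ ^ l₀ ∈ Subgroup.zpowers σ := Subgroup.pow_mem _ (Subgroup.mem_zpowers σ) _
  have key : ∀ l ∈ Finset.range m,
      F ζ j l * ∑ χ ∈ blk M G, (χ : G → ℂ) (σ ^ l₀) * (χ : G → ℂ) (σ ^ l) =
      if l ∈ ({l₀, m - l₀} : Finset ℕ) then F ζ j l₀ * (centCard n (σ ^ l₀) : ℂ) else 0 := by
    intro l hlr
    have hl' := Finset.mem_range.mp hlr
    rw [S.sum_col hM hx (S.rot_ne_one h0 hl) (Subgroup.pow_mem _ (Subgroup.mem_zpowers σ) l)]
    have e1 : σ ^ l = σ ^ l₀ ↔ l = l₀ := by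
      refine ⟨fun h => pow_injOn_Iio_orderOf (Set.mem_Iio.mpr (S.ord ▸ hl'))
        (Set.mem_Iio.mpr (S.ord ▸ hl)) h, fun h => by rw [h]⟩
    have e2 : σ ^ l = (σ ^ l₀)⁻¹ ↔ l = m - l₀ := by
      have : (σ ^ l₀)⁻¹ = σ ^ (m - l₀) := by
        refine inv_eq_of_mul_eq_one_right ?_
        rw [← pow_add, Nat.add_sub_cancel' hl.le, hm, ← S.ord, pow_orderOf_eq_one]
      rw [this]
      refine ⟨fun h => pow_injOn_Iio_orderOf (Set.mem_Iio.mpr (S.ord ▸ hl'))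
        (Set.mem_Iio.mpr (S.ord ▸ (by omega : m - l₀ < m))) h, fun h => by rw [h]⟩
    simp only [e1, e2, Finset.mem_insert, Finset.mem_singleton]
    split_ifs with h
    · rcases h with h | h
      · rw [h]
      · rw [S.F_symm hζ (j := j) (l := l₀) (l' := l) (by omega)]
    · rw [mul_zero]
  rw [Finset.sum_congr rfl key, ← Finset.sum_filter, Finset.sum_const, nsmul_eq_mul]
  have hset : (Finset.range m).filter (· ∈ ({l₀, m - l₀} : Finset ℕ)) = {l₀, m - l₀} := by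
    ext a
    simp only [Finset.mem_filter, Finset.mem_range, Finset.mem_insert, Finset.mem_singleton]
    omega
  rw [hset]
  have hmh : m = 2 * 2 ^ (n - 2) := S.pow_succ_eq
  have hmn : 2 * m = 2 ^ n := by
    rw [hm, ← pow_succ']; congr 1; have := S.hn; omega
  by_cases h2 : l₀ = m - l₀
  · rw [← h2, Finset.pair_eq_singleton, Finset.card_singleton, centCard, if_pos, ← hmn]
    · rw [hm]; push_cast; ring
    · rw [← pow_add, show l₀ + l₀ = m by omega, hm, ← S.ord, pow_orderOf_eq_one]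
  · rw [Finset.card_pair h2, centCard, if_neg]
    · rw [hm]; push_cast; ring
    · rw [← pow_add]
      intro h
      obtain ⟨c, hc⟩ := orderOf_dvd_of_pow_eq_one h
      rw [S.ord, ← hm] at hc
      match c with
      | 0 => omega
      | 1 => omega
      | c + 2 =>
        have : m * 2 ≤ m * (c + 2) := Nat.mul_le_mul_left _ (by omega)
        omega

variable {u : IrrCharacter G → ℕ → ℤ}

theorem two_m_ne : (2 * (2 ^ (n - 1) : ℕ) : ℂ) ≠ 0 := by
  norm_num [Nat.cast_ne_zero.mpr (show (2 ^ (n - 1) : ℕ) ≠ 0 by positivity)]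

/-- The generalized character of the vector `j`, on the section of a rotation. -/
theorem theta_rot (hM : IsPModular 2 M) (hζ : IsPrimitiveRoot ζ (2 ^ (n - 1))) (hu : Vec n σ ζ u)
    {j l₀ : ℕ} (hj : j < 2 ^ (n - 1)) (h0 : 0 < l₀) (hl : l₀ < 2 ^ (n - 1)) :
    ∑ χ ∈ blk M G, (u χ j : ℂ) * (χ : G → ℂ) (σ ^ l₀) = F ζ j l₀ := by
  refine mul_left_cancel₀ S.two_m_ne ?_
  rw [← S.sum_F_col hM hζ h0 hl, Finset.mul_sum]
  simp only [← mul_assoc, hu.formula _ j hj, Finset.sum_mul, Finset.mul_sum]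
  rw [Finset.sum_comm]
  exact Finset.sum_congr rfl fun l _ => Finset.sum_congr rfl fun χ _ => by ring

theorem theta_on (hM : IsPModular 2 M) (hζ : IsPrimitiveRoot ζ (2 ^ (n - 1))) (hu : Vec n σ ζ u)
    {g g₂ : G} (hg : IsPPart 2 g g₂) {j l₀ : ℕ} (hj : j < 2 ^ (n - 1)) (h0 : 0 < l₀)
    (hl : l₀ < 2 ^ (n - 1)) (hc : IsConj g₂ (σ ^ l₀)) :
    ∑ χ ∈ blk M G, (u χ j : ℂ) * (χ : G → ℂ) g = F ζ j l₀ := by
  rw [← S.theta_rot hM hζ hu hj h0 hl]
  obtain ⟨c, hc⟩ := isConj_iff.mp hc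
  obtain ⟨y, hy, hcomm, -, hodd⟩ := hg
  refine Finset.sum_congr rfl fun χ hχ => ?_
  congr 1
  rw [← BlocksCore.irr_class χ g c, ← hy,
    show c * (g₂ * y) * c⁻¹ = (c * g₂ * c⁻¹) * (c * y * c⁻¹) by group, hc]
  refine S.apply_section hM (Subgroup.pow_mem _ (Subgroup.mem_zpowers σ) _) (S.rot_ne_one h0 hl)
    ?_ ?_ hχ
  · rw [← hc]; exact hcomm.map (MulAut.conj c).toMonoidHom
  · rwa [show orderOf (c * y * c⁻¹) = orderOf y from (MulAut.conj c).orderOf_eq y]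

theorem theta_off (hM : IsPModular 2 M) (hζ : IsPrimitiveRoot ζ (2 ^ (n - 1))) (hu : Vec n σ ζ u)
    {g g₂ : G} (hg : IsPPart 2 g g₂) {j : ℕ} (hj : j < 2 ^ (n - 1))
    (hnc : ∀ l, 0 < l → l < 2 ^ (n - 1) → ¬ IsConj g₂ (σ ^ l)) :
    ∑ χ ∈ blk M G, (u χ j : ℂ) * (χ : G → ℂ) g = 0 := by
  refine mul_left_cancel₀ S.two_m_ne ?_
  rw [mul_zero, Finset.mul_sum]
  simp only [← mul_assoc, hu.formula _ j hj, Finset.sum_mul]
  rw [Finset.sum_comm]
  refine Finset.sum_eq_zero fun l hl => ?_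
  simp only [mul_assoc, ← Finset.mul_sum]
  rcases Nat.eq_zero_or_pos l with rfl | h0
  · rw [F_zero, zero_mul]
  · have h := S.sum_off hM (Subgroup.pow_mem _ (Subgroup.mem_zpowers σ) l) hg
      (hnc l h0 (Finset.mem_range.mp hl))
    exact mul_eq_zero_of_right _ ((Finset.sum_congr rfl fun χ _ => mul_comm _ _).trans h)

theorem vec_one (hζ : IsPrimitiveRoot ζ (2 ^ (n - 1))) (hu : Vec n σ ζ u) {χ : IrrCharacter G}
    (hχ : (χ : G → ℂ) = fun _ => 1) {j : ℕ} (h0 : 0 < j) (hj : j < 2 ^ (n - 1)) :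
    u χ j = -1 := by
  have h := hu.formula χ j hj
  rw [hχ] at h
  simp only [mul_one] at h
  rw [sum_F hζ h0 hj] at h
  have : (u χ j : ℂ) = ((-1 : ℤ) : ℂ) := by
    refine mul_left_cancel₀ S.two_m_ne ?_
    rw [h]; push_cast; ring
  exact_mod_cast this

theorem gram (hM : IsPModular 2 M) (hζ : IsPrimitiveRoot ζ (2 ^ (n - 1))) (hu : Vec n σ ζ u)
    {j k : ℕ} (hj0 : 0 < j) (hk0 : 0 < k) (hj : j ≤ 2 ^ (n - 2)) (hk : k ≤ 2 ^ (n - 2)) :
    ∑ χ ∈ blk M G, u χ j * u χ k =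
      (if j + k = 2 ^ (n - 1) then 1 else 0) + (if j = k then 1 else 0) + 2 := by
  have hm := S.pow_succ_eq
  have h2 := S.two_le
  have key : (2 * (2 ^ (n - 1) : ℕ) : ℂ) * ∑ χ ∈ blk M G, (u χ j : ℂ) * (u χ k : ℂ) =
      (2 * (2 ^ (n - 1) : ℕ) : ℂ) *
        ((if j + k = 2 ^ (n - 1) then 1 else 0) + (if j = k then 1 else 0) + 2) := by
    rw [← sum_F_mul hζ hj0 hk0 (by omega) (by omega), Finset.mul_sum]
    simp only [mul_left_comm _ (u _ j : ℂ), hu.formula _ k (by omega), Finset.mul_sum]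
    rw [Finset.sum_comm]
    refine Finset.sum_congr rfl fun l hl => ?_
    simp only [mul_left_comm _ (F ζ k l), ← Finset.mul_sum]
    rcases Nat.eq_zero_or_pos l with rfl | h0
    · rw [F_zero, F_zero, mul_zero, zero_mul]
    · rw [S.theta_rot hM hζ hu (by omega) h0 (Finset.mem_range.mp hl), mul_comm]
  have := mul_left_cancel₀ S.two_m_ne key
  exact_mod_cast this

theorem vec_symm (hζ : IsPrimitiveRoot ζ (2 ^ (n - 1))) (hu : Vec n σ ζ u) (χ : IrrCharacter G)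
    {j : ℕ} (h0 : 0 < j) (hj : j < 2 ^ (n - 1)) : u χ (2 ^ (n - 1) - j) = u χ j := by
  have : (u χ (2 ^ (n - 1) - j) : ℂ) = u χ j := by
    refine mul_left_cancel₀ S.two_m_ne ?_
    rw [hu.formula χ j hj, hu.formula χ _ (by omega)]
    refine Finset.sum_congr rfl fun l _ => ?_
    congr 1
    have h1 : ζ ^ (j * l) * ζ ^ ((2 ^ (n - 1) - j) * l) = 1 := by
      rw [← pow_add, ← add_mul, Nat.add_sub_cancel' hj.le, pow_mul, hζ.pow_eq_one, one_pow]
    rw [F, F, eq_inv_of_mul_eq_one_right h1, inv_inv]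
    ring
  exact_mod_cast this

theorem vec_zero (hu : Vec n σ ζ u) (χ : IrrCharacter G) : u χ 0 = 0 := by
  have h := hu.formula χ 0 (by positivity)
  have h1 : ∀ l, F ζ 0 l = 0 := fun l => by simp [F]; norm_num
  simp only [h1, zero_mul, Finset.sum_const_zero] at h
  have := (mul_eq_zero.mp h).resolve_left S.two_m_ne
  exact_mod_cast this

end Setup

end Cfsg.Agent.ZStar.Dih
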