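import Cfsg.Agent.ZStar.DihedralBlock.Values
import Cfsg.Agent.ZStar.DihedralBlock.Reflections
import Cfsg.Agent.Lib.Involution.Counting

/-!
# Counting pairs of involutions against a section character
-/

set_option autoImplicit false
set_option linter.unusedSectionVars false
set_option linter.style.haveILetI false

open Cfsg

namespace Cfsg.Agent.ZStar.Dih

variable {G : Type*} [Group G] [Fintype G] {P : Sylow 2 G} {n : ℕ} {σ τ : G} {M : Ideal AlgInt}
  {ζ : ℂ} {u : IrrCharacter G → ℕ → ℤ}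

open scoped Classical in
/-- The conjugacy class as a finite set. -/
noncomputable def cls (g : G) : Finset G := Finset.univ.filter fun x => IsConj g x

theorem mem_cls {g x : G} : x ∈ cls g ↔ IsConj g x := by
  classical
  simp [cls]

theorem card_cls_mul (g : G) :
    (cls g).card * Nat.card (Subgroup.centralizer ({g} : Set G)) = Nat.card G := by
  classical
  rw [← Involution.card_isConj_mul_card_centralizer g]
  congr 1
  rw [cls, Nat.card_eq_fintype_card, Fintype.card_subtype]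

/-- Pairs from one class, evaluated at an irreducible character. -/
theorem class_pair (χ : IrrCharacter G) (g : G) :
    ∑ i ∈ cls g, ∑ j ∈ cls g, (χ : G → ℂ) (i * j) =
      ((cls g).card * (χ : G → ℂ) g) ^ 2 / (χ : G → ℂ) 1 := by
  classical
  obtain ⟨f, d, ρ, hρ, hf⟩ := χ
  subst hf
  haveI := hρ
  set T : Module.End ℂ (Fin d → ℂ) := ∑ i ∈ cls g, ρ i with hT
  set ω := BlocksCore.omega ρ.character (BlocksCore.classInd g) with hω
  have h1 : T = ω • (1 : Module.End ℂ (Fin d → ℂ)) := by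
    rw [← BlocksCore.sum_smul_eq_omega_smul ρ (BlocksCore.isClassFunction_classInd g), hT, cls,
      Finset.sum_filter]
    refine Finset.sum_congr rfl fun x _ => ?_
    split_ifs with h
    · rw [BlocksCore.classInd_apply_of_isConj h, one_smul]
    · rw [BlocksCore.classInd_apply_of_not_isConj h, zero_smul]
  have hne : ρ.character 1 ≠ 0 := by
    rw [Representation.char_one, Module.finrank_fin_fun]
    exact Nat.cast_ne_zero.mpr (BlocksCore.degree_pos_of_rep ρ).ne'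
  have hlhs : ∑ i ∈ cls g, ∑ j ∈ cls g, ρ.character (i * j) = ω * ω * ρ.character 1 := by
    have h2 : LinearMap.trace ℂ _ (T * T) = ω * ω * ρ.character 1 := by
      rw [h1, smul_mul_assoc, one_mul, smul_smul, map_smul, LinearMap.trace_one,
        Representation.char_one, smul_eq_mul]
    rw [← h2, hT, Finset.sum_mul_sum, map_sum]
    refine Finset.sum_congr rfl fun i _ => ?_
    rw [map_sum]
    refine Finset.sum_congr rfl fun j _ => ?_
    rw [← map_mul]
    rfl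
  show ∑ i ∈ cls g, ∑ j ∈ cls g, ρ.character (i * j) = _
  have hωv : ω = (cls g).card * ρ.character g / ρ.character 1 := by
    rw [hω, BlocksCore.omega_eq_sum, cls, Finset.card_filter, Nat.cast_sum, Finset.sum_mul]
    congr 1
    refine Finset.sum_congr rfl fun x _ => ?_
    split_ifs with h
    · obtain ⟨c, rfl⟩ := isConj_iff.mp h
      rw [BlocksCore.classInd_apply_of_isConj h, Nat.cast_one, Representation.char_conj]
    · simp [BlocksCore.classInd_apply_of_not_isConj h]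
  rw [hlhs, hωv]
  field_simp

theorem mem_zpowers_of_isPPart {g g₂ : G} (h : IsPPart 2 g g₂) : g₂ ∈ Subgroup.zpowers g := by
  obtain ⟨y, hy, hc, ⟨k, hk⟩, hodd⟩ := h
  obtain ⟨e, he1, he2⟩ := Nat.chineseRemainder
    (Nat.Coprime.pow_left k (Nat.prime_two.coprime_iff_not_dvd.mpr hodd) :
      (2 ^ k).Coprime (orderOf y)) 1 0
  refine ⟨(e : ℤ), ?_⟩
  show g ^ (e : ℤ) = g₂
  rw [zpow_natCast, ← hy, hc.mul_pow,
    show y ^ e = 1 from orderOf_dvd_iff_pow_eq_one.mp (Nat.modEq_zero_iff_dvd.mp he2), mul_one]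
  conv_rhs => rw [← pow_one g₂]
  rw [pow_eq_pow_iff_modEq, hk]
  exact he1

/-- The section character of the first vector. -/
noncomputable def theta (M : Ideal AlgInt) (u : IrrCharacter G → ℕ → ℤ) (g : G) : ℂ :=
  ∑ χ ∈ blk M G, (u χ 1 : ℂ) * (χ : G → ℂ) g

theorem theta_conj (g c : G) : theta M u (c * g * c⁻¹) = theta M u g :=
  Finset.sum_congr rfl fun χ _ => by rw [BlocksCore.irr_class χ g c]

namespace Setup

variable (S : Setup P n σ τ)
include S

open scoped Classical in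
theorem theta_eq_sum (hM : IsPModular 2 M) (hζ : IsPrimitiveRoot ζ (2 ^ (n - 1)))
    (hu : Vec n σ ζ u) (g : G) :
    theta M u g = ∑ c ∈ cls (J n σ), if c ∈ Subgroup.zpowers g then theta M u g else 0 := by
  haveI : Fact (Nat.Prime 2) := ⟨Nat.prime_two⟩
  by_cases h0 : theta M u g = 0
  · rw [h0, Finset.sum_eq_zero fun c _ => by simp]
  obtain ⟨g₂, hg₂⟩ := BlocksCore.exists_pPart (p := 2) Nat.prime_two g
  have h1m : 1 < 2 ^ (n - 1) := by have := S.two_le; have := S.pow_succ_eq; omega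
  obtain ⟨l, hl0, hl, hconj⟩ : ∃ l, 0 < l ∧ l < 2 ^ (n - 1) ∧ IsConj (σ ^ l) g₂ := by
    by_contra hno
    exact h0 (S.theta_off hM hζ hu hg₂ h1m fun l hl0 hl hc => hno ⟨l, hl0, hl, hc.symm⟩)
  obtain ⟨d, hd⟩ := isConj_iff.mp hconj
  obtain ⟨e, he⟩ := S.J_mem_zpowers_of_ne (Subgroup.pow_mem _ (Subgroup.mem_zpowers σ) l)
    (S.rot_ne_one hl0 hl)
  simp only at he
  set c₀ := d * J n σ * d⁻¹ with hc₀
  have hc₀g : c₀ ∈ Subgroup.zpowers g := by
    rw [hc₀, ← he, ← _root_.conj_zpow, hd]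
    exact Subgroup.zpow_mem _ (mem_zpowers_of_isPPart hg₂) e
  have huniq : ∀ c ∈ cls (J n σ), c ∈ Subgroup.zpowers g → c = c₀ := by
    intro c hc hcg
    obtain ⟨f, hf⟩ := isConj_iff.mp (mem_cls.mp hc)
    have hoc : orderOf c = 2 := by
      rw [← hf, ← S.orderOf_J]; exact (MulAut.conj f).orderOf_eq _
    have hoc₀ : orderOf c₀ = 2 := by rw [← S.orderOf_J]; exact (MulAut.conj d).orderOf_eq _
    obtain ⟨i, hi⟩ := Subgroup.mem_zpowers_iff.mp
      ((zpowers_eq_of_orderOf_eq hcg hc₀g (hoc.trans hoc₀.symm)) ▸ Subgroup.mem_zpowers c)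
    rw [← hi, zpow_eq_one_or_self_of_order_two hoc₀ i |>.resolve_left ?_]
    intro h1
    rw [hi] at h1
    rw [h1, orderOf_one] at hoc
    omega
  rw [Finset.sum_eq_single c₀ (fun c hc hne => if_neg fun h => hne (huniq c hc h))
    (fun h => absurd (mem_cls.mpr (isConj_iff.mpr ⟨d, rfl⟩)) h), if_pos hc₀g]
where
  zpow_eq_one_or_self_of_order_two {x : G} (hx : orderOf x = 2) (i : ℤ) :
      x ^ i = 1 ∨ x ^ i = x := by
    rw [← zpow_mod_orderOf, hx]
    rcases Int.emod_two_eq_zero_or_one i with h | h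
    · exact Or.inl (by rw [show ((2 : ℕ) : ℤ) = 2 from rfl, h, zpow_zero])
    · exact Or.inr (by rw [show ((2 : ℕ) : ℤ) = 2 from rfl, h, zpow_one])

open scoped Classical in
/-- Reduction of the pair sum to one centralizer. -/
theorem pair_sum (hM : IsPModular 2 M) (hζ : IsPrimitiveRoot ζ (2 ^ (n - 1))) (hu : Vec n σ ζ u) :
    ∑ i ∈ cls (J n σ), ∑ j ∈ cls (J n σ), theta M u (i * j) =
      ((cls (J n σ)).card : ℂ) * ∑ i ∈ cls (J n σ), ∑ j ∈ cls (J n σ),
        if J n σ ∈ Subgroup.zpowers (i * j) then theta M u (i * j) else 0 := by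
  set Q := cls (J n σ) with hQ
  have hstep : ∑ i ∈ Q, ∑ j ∈ Q, theta M u (i * j) = ∑ c ∈ Q, ∑ i ∈ Q, ∑ j ∈ Q,
      if c ∈ Subgroup.zpowers (i * j) then theta M u (i * j) else 0 := by
    rw [Finset.sum_comm (s := Q) (t := Q) (f := fun c i => ∑ j ∈ Q,
      if c ∈ Subgroup.zpowers (i * j) then theta M u (i * j) else 0)]
    refine Finset.sum_congr rfl fun i _ => ?_
    rw [Finset.sum_comm]
    exact Finset.sum_congr rfl fun j _ => S.theta_eq_sum hM hζ hu (i * j)
  rw [hstep, Finset.sum_congr rfl (g := fun _ => ∑ i ∈ Q, ∑ j ∈ Q,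
    if J n σ ∈ Subgroup.zpowers (i * j) then theta M u (i * j) else 0) (fun c hc => ?_),
    Finset.sum_const, nsmul_eq_mul]
  obtain ⟨d, rfl⟩ := isConj_iff.mp (mem_cls.mp hc)
  have hmap : ∀ i, d * i * d⁻¹ ∈ Q ↔ i ∈ Q := fun i => by
    have hii : IsConj i (d * i * d⁻¹) := isConj_iff.mpr ⟨d, rfl⟩
    rw [hQ, mem_cls, mem_cls]
    exact ⟨fun h => h.trans hii.symm, fun h => h.trans hii⟩
  refine (Finset.sum_equiv (MulAut.conj d).toEquiv (fun i => (hmap i).symm) fun i _ => ?_).symm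
  refine Finset.sum_equiv (MulAut.conj d).toEquiv (fun i => (hmap i).symm) fun j _ => ?_
  show _ = if d * J n σ * d⁻¹ ∈ Subgroup.zpowers (d * i * d⁻¹ * (d * j * d⁻¹)) then
    theta M u (d * i * d⁻¹ * (d * j * d⁻¹)) else 0
  rw [conj_mul, theta_conj]
  refine if_congr ?_ rfl rfl
  rw [Subgroup.mem_zpowers_iff, Subgroup.mem_zpowers_iff]
  refine exists_congr fun k => ?_
  rw [_root_.conj_zpow]
  exact ⟨fun h => by rw [h], fun h => mul_left_cancel (mul_right_cancel h)⟩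

variable {K : Subgroup G} (C : Core P n σ K)
include C

theorem mem_coset_of_part {g₂ y r k : G} (hy : Commute g₂ y)
    (hg₂C : g₂ ∈ Subgroup.centralizer ({J n σ} : Set G)) (hyK : y ∈ K)
    (hr : r ∈ (P : Subgroup G)) (hk : k ∈ K) (h : g₂ * y = r * k) :
    ∃ k' ∈ K, g₂ = r * k' :=
  ⟨k * y⁻¹, mul_mem hk (inv_mem hyK), by rw [← mul_assoc, ← h, mul_inv_cancel_right]⟩

/-- The 2-part of an element of a rotation coset of the core. -/
theorem part_of_rot {g : G} {l : ℕ} {k : G} (hl0 : 0 < l) (hl : l < 2 ^ (n - 1)) (hk : k ∈ K)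
    (hg : g = σ ^ l * k) {g₂ : G} (hg₂ : IsPPart 2 g g₂) :
    J n σ ∈ Subgroup.zpowers g ∧ (IsConj g₂ (σ ^ l) ∨ IsConj g₂ (σ ^ (2 ^ (n - 1) - l))) := by
  classical
  haveI : Fact (Nat.Prime 2) := ⟨Nat.prime_two⟩
  set Z := Subgroup.centralizer ({J n σ} : Set G) with hZ
  have hσl : σ ^ l ∈ (P : Subgroup G) := Subgroup.pow_mem _ S.hσ l
  have hgZ : g ∈ Z := hg ▸ mul_mem (S.sylow_le_cent hσl) (C.le hk)
  have hz := mem_zpowers_of_isPPart hg₂
  obtain ⟨y, hy, hc, ⟨e, he⟩, hodd⟩ := hg₂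
  have hg₂Z : g₂ ∈ Z := (Subgroup.zpowers_le.mpr hgZ) hz
  have hyZ : y ∈ Z := by
    have : y = g₂⁻¹ * g := by rw [← hy, inv_mul_cancel_left]
    exact this ▸ mul_mem (inv_mem hg₂Z) hgZ
  have hyK : y ∈ K := C.reg y hyZ (Nat.odd_iff.mpr (Nat.two_dvd_ne_zero.mp hodd))
  obtain ⟨k', hk', hg2e⟩ := S.mem_coset_of_part C hc hg₂Z hyK hσl hk (hy.trans hg)
  -- conjugate the 2-part into `P` inside the centralizer
  set T : Sylow 2 Z := P.subtype S.sylow_le_cent
  have hp2 : IsPGroup 2 (Subgroup.zpowers (⟨g₂, hg₂Z⟩ : Z)) := IsPGroup.of_card (n := e) (by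
    rw [Nat.card_zpowers, Subgroup.orderOf_mk, he])
  obtain ⟨T', hT'⟩ := hp2.exists_le_sylow
  obtain ⟨c, hcT⟩ := MulAction.exists_smul_eq Z T' T
  have hp : (c : G) * g₂ * (c : G)⁻¹ ∈ (P : Subgroup G) := by
    have : c * ⟨g₂, hg₂Z⟩ * c⁻¹ ∈ (T : Subgroup Z) := by
      rw [← hcT, Sylow.coe_subgroup_smul, Subgroup.mem_pointwise_smul_iff_inv_smul_mem]
      simpa [MulAut.smul_def, mul_assoc] using hT' (Subgroup.mem_zpowers _)
    exact this
  obtain ⟨r, hr, q, hq, hcq⟩ := C.decomp c c.2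
  have hconjK : ∃ k'' ∈ K, (c : G) * g₂ * (c : G)⁻¹ = r * σ ^ l * r⁻¹ * k'' := by
    refine ⟨r * (σ ^ l)⁻¹ * q * σ ^ l * k' * q⁻¹ * r⁻¹, ?_, by rw [hcq, hg2e]; group⟩
    have h1 : (σ ^ l)⁻¹ * q * σ ^ l ∈ K := by
      simpa using S.conj_mem C (S.sylow_le_cent (Subgroup.inv_mem _ hσl)) hq
    have h2 : (σ ^ l)⁻¹ * q * σ ^ l * k' * q⁻¹ ∈ K := mul_mem (mul_mem h1 hk') (inv_mem hq)
    have := S.conj_mem C (S.sylow_le_cent hr) h2
    simpa [mul_assoc] using this
  obtain ⟨k'', hk'', hpe⟩ := hconjK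
  obtain ⟨heq, -⟩ := S.unique_decomp C hp (mul_mem (mul_mem hr hσl) (inv_mem hr)) (one_mem K) hk''
    (by rw [mul_one]; exact hpe)
  have hJc : (c : G) * J n σ * (c : G)⁻¹ = J n σ :=
    mul_inv_eq_iff_eq_mul.mpr (Subgroup.mem_centralizer_singleton_iff.mp c.2)
  have hJg : ∀ x : G, x ∈ Subgroup.zpowers σ → x ≠ 1 → (c : G) * g₂ * (c : G)⁻¹ = x →
      J n σ ∈ Subgroup.zpowers g := by
    intro x hx hx1 hxe
    obtain ⟨i, hi⟩ := S.J_mem_zpowers_of_ne hx hx1
    simp only at hi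
    refine Subgroup.zpowers_le.mpr hz ⟨i, ?_⟩
    show g₂ ^ i = J n σ
    rw [← hxe, _root_.conj_zpow] at hi
    exact mul_left_cancel (mul_right_cancel (hi.trans hJc.symm))
  rcases S.conj_eq_or (Subgroup.pow_mem _ (Subgroup.mem_zpowers σ) l) hr with ⟨-, h⟩ | ⟨-, h⟩
  · rw [h] at heq
    exact ⟨hJg _ (Subgroup.pow_mem _ (Subgroup.mem_zpowers σ) l) (S.rot_ne_one hl0 hl) heq,
      Or.inl (isConj_iff.mpr ⟨c, heq⟩)⟩
  · have hinv : (σ ^ l)⁻¹ = σ ^ (2 ^ (n - 1) - l) := by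
      refine inv_eq_of_mul_eq_one_right ?_
      rw [← pow_add, Nat.add_sub_cancel' hl.le, ← S.ord, pow_orderOf_eq_one]
    rw [h, hinv] at heq
    exact ⟨hJg _ (Subgroup.pow_mem _ (Subgroup.mem_zpowers σ) _)
      (S.rot_ne_one (by omega) (by omega)) heq, Or.inr (isConj_iff.mpr ⟨c, heq⟩)⟩

open scoped Classical in
/-- The involutions of the reflection coset `σ ^ a τ K`. -/
theorem coset_value (hM : IsPModular 2 M) (hζ : IsPrimitiveRoot ζ (2 ^ (n - 1)))
    (hu : Vec n σ ζ u) {a b : ℕ} {i j : G} (hi : i * i = 1) (hj : j * j = 1)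
    {k k' : G} (hk : k ∈ K) (hk' : k' ∈ K) (hie : i = σ ^ a * τ * k) (hje : j = σ ^ b * τ * k') :
    (if J n σ ∈ Subgroup.zpowers (i * j) then theta M u (i * j) else 0) =
      ζ ^ a * (ζ ^ b)⁻¹ + (ζ ^ a * (ζ ^ b)⁻¹)⁻¹ - 2 := by
  haveI : Fact (Nat.Prime 2) := ⟨Nat.prime_two⟩
  have hm0 : 0 < 2 ^ (n - 1) := by positivity
  have hζ0 : ζ ≠ 0 := hζ.ne_zero hm0.ne'
  set m := 2 ^ (n - 1) with hm
  obtain ⟨l, hl, hlz⟩ : ∃ l < m, σ ^ l = σ ^ ((a : ℤ) - b) ∧ ζ ^ l = ζ ^ a * (ζ ^ b)⁻¹ := by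
    refine ⟨((a : ℤ) - b).natMod m, ?_, ?_, ?_⟩
    · exact Int.natMod_lt hm0.ne'
    · rw [← zpow_natCast, Int.natMod, Int.toNat_of_nonneg (Int.emod_nonneg _ (by omega)), hm,
        ← S.ord, zpow_mod_orderOf]
    · rw [← zpow_natCast, Int.natMod, Int.toNat_of_nonneg (Int.emod_nonneg _ (by omega))]
      have : ζ ^ (((a : ℤ) - b) % (m : ℤ)) = ζ ^ ((a : ℤ) - b) := by
        conv_rhs => rw [← Int.emod_add_mul_ediv ((a : ℤ) - b) m, zpow_add₀ hζ0, zpow_mul,
          zpow_natCast ζ m, hζ.pow_eq_one, one_zpow, mul_one]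
      rw [this, zpow_sub₀ hζ0, zpow_natCast, zpow_natCast, div_eq_mul_inv]
  have hbP : σ ^ (b : ℤ) * τ ∈ (P : Subgroup G) := S.refl_mem C b
  obtain ⟨k'', hk'', hg⟩ : ∃ k'' ∈ K, i * j = σ ^ l * k'' := by
    refine ⟨(σ ^ (b : ℤ) * τ)⁻¹ * k * (σ ^ (b : ℤ) * τ) * k', ?_, ?_⟩
    · refine mul_mem ?_ hk'
      simpa using S.conj_mem C (S.sylow_le_cent (Subgroup.inv_mem _ hbP)) hk
    · rw [hlz.1, hie, hje, ← zpow_natCast σ a, ← zpow_natCast σ b,
        show σ ^ ((a : ℤ) - b) = σ ^ (a : ℤ) * τ * (σ ^ (b : ℤ) * τ) from ?_]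
      · group
      · rw [show σ ^ (a : ℤ) * τ * (σ ^ (b : ℤ) * τ) = σ ^ (a : ℤ) * (τ * σ ^ (b : ℤ)) * τ by group,
          S.tau_mul_zpow, zpow_sub, mul_assoc (σ ^ (a : ℤ)), mul_assoc (σ ^ (-(b : ℤ))), S.tau_sq,
          mul_one, zpow_neg]
  rw [← hlz.2]
  rcases Nat.eq_zero_or_pos l with rfl | hl0
  · rw [pow_zero, one_mul] at hg
    rw [if_neg fun hJ => S.J_ne (S.eq_one_of_mem_both C (S.zpowers_le S.J_mem)
      (Subgroup.zpowers_le.mpr (hg ▸ hk'') hJ))]
    norm_num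
  · obtain ⟨g₂, hg₂⟩ := BlocksCore.exists_pPart (p := 2) Nat.prime_two (i * j)
    obtain ⟨hJ, hcj⟩ := S.part_of_rot C hl0 hl hk'' hg hg₂
    have h1m : 1 < m := by have := S.two_le; have := S.pow_succ_eq; omega
    rw [if_pos hJ]
    rcases hcj with hc | hc
    · rw [theta, S.theta_on hM hζ hu hg₂ h1m hl0 hl hc, F, one_mul]
    · rw [theta, S.theta_on hM hζ hu hg₂ h1m (by omega) (by omega) hc,
        S.F_symm hζ (j := 1) (l := l) (l' := m - l) (by omega), F, one_mul]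

theorem refl_cases {i : G} (hi : i * i = 1) (hiC : i ∈ Subgroup.centralizer ({J n σ} : Set G))
    (h1 : i ≠ 1) (hJ : i ≠ J n σ) :
    ∃ a < 2 ^ (n - 1), ∃ k ∈ K, i = σ ^ a * τ * k := by
  obtain ⟨r, hr, k, hk, hie⟩ := C.decomp i hiC
  rcases S.mem_cases hr with hrT | ⟨z, hz⟩
  · exfalso
    have hkr : r * k * r⁻¹ ∈ K := S.conj_mem C (S.sylow_le_cent hr) hk
    have hr2 : r * r = 1 := by
      refine S.eq_one_of_mem_both C (mul_mem hr hr) ?_
      have hrr : r⁻¹ * k * r ∈ K := by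
        simpa using S.conj_mem C (S.sylow_le_cent (Subgroup.inv_mem _ hr)) hk
      have e : r * r = (r⁻¹ * k * r * k)⁻¹ := by
        apply eq_inv_of_mul_eq_one_left
        rw [show r * r * (r⁻¹ * k * r * k) = r * k * (r * k) by group, ← hie, hi]
      rw [e]; exact inv_mem (mul_mem hrr hk)
    have hrcases : r = 1 ∨ r = J n σ := (em (r = 1)).imp_right (S.eq_J_of_sq hrT hr2)
    rcases hrcases with e | e
    · rw [e, one_mul] at hie
      subst hie
      exact h1 (eq_one_of_pow_odd (k := 2) (by rw [pow_two, hi]) (pow_orderOf_eq_one i)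
        (C.odd i hk).coprime_two_left)
    · have hcomm : Commute (J n σ) k :=
        (Subgroup.mem_centralizer_singleton_iff.mp (C.le hk)).symm
      have hk2 : k * k = 1 := by
        rw [hie, e, hcomm.symm.mul_mul_mul_comm, S.J_sq, one_mul] at hi
        exact hi
      have hk1 : k = 1 := eq_one_of_pow_odd (k := 2) (by rw [pow_two, hk2]) (pow_orderOf_eq_one k)
        (C.odd k hk).coprime_two_left
      exact hJ (by rw [hie, e, hk1, mul_one])
  · have hpos : (0 : ℤ) < (2 ^ (n - 1) : ℕ) := by positivity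
    refine ⟨(z % (2 ^ (n - 1) : ℕ)).toNat, ?_, k, hk, ?_⟩
    · have := Int.emod_lt_of_pos z hpos
      omega
    · rw [hie, hz, ← zpow_natCast σ (Int.toNat _), Int.toNat_of_nonneg (Int.emod_nonneg _ (by omega)),
        ← S.ord, zpow_mod_orderOf]

open scoped Classical in
/-- The involutions in the `a`-th reflection coset. -/
noncomputable def cosetInv (K : Subgroup G) (σ τ : G) (a : ℕ) : Finset G :=
  Finset.univ.filter fun i : G => i * i = 1 ∧ ∃ k ∈ K, i = σ ^ a * τ * k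

open scoped Classical in
theorem central_sum (hM : IsPModular 2 M) (hζ : IsPrimitiveRoot ζ (2 ^ (n - 1))) (hu : Vec n σ ζ u)
    (hτJ : IsConj (J n σ) τ) (hστJ : IsConj (J n σ) (σ * τ)) :
    (∑ i ∈ cls (J n σ), ∑ j ∈ cls (J n σ),
        if J n σ ∈ Subgroup.zpowers (i * j) then theta M u (i * j) else 0) =
      ∑ a ∈ Finset.range (2 ^ (n - 1)), ∑ b ∈ Finset.range (2 ^ (n - 1)),
        ((cosetInv K σ τ a).card : ℂ) * (cosetInv K σ τ b).card *
          (ζ ^ a * (ζ ^ b)⁻¹ + (ζ ^ a * (ζ ^ b)⁻¹)⁻¹ - 2) := by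
  set Q := cls (J n σ)
  set R := (Finset.range (2 ^ (n - 1))).biUnion (cosetInv K σ τ) with hR
  have hreflQ : ∀ a : ℕ, IsConj (J n σ) (σ ^ a * τ) := by
    intro a
    induction a using Nat.twoStepInduction with
    | zero => simpa using hτJ
    | one => simpa using hστJ
    | more a ih _ =>
      refine ih.trans (isConj_iff.mpr ⟨σ, ?_⟩)
      rw [show σ * (σ ^ a * τ) * σ⁻¹ = σ ^ (a + 1) * (τ * σ ^ (-1 : ℤ)) by group, S.tau_mul_zpow,
        ← mul_assoc]
      group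
  have hRQ : R ⊆ Q := by
    intro i hi
    obtain ⟨a, -, hia⟩ := Finset.mem_biUnion.mp hi
    obtain ⟨-, hi2, k, hk, hie⟩ := Finset.mem_filter.mp hia
    have hy : σ ^ a * τ ∈ (P : Subgroup G) := mul_mem (Subgroup.pow_mem _ S.hσ a) S.hτ
    have hy2 : σ ^ a * τ * (σ ^ a * τ) = 1 := by rw [← zpow_natCast]; exact S.refl_sq _
    obtain ⟨s, -, hs⟩ := S.exists_conj_of_sq C hy hy2 hk (by rw [← hie]; exact hi2)
    exact mem_cls.mpr ((hreflQ a).trans (isConj_iff.mpr ⟨s⁻¹, by rw [inv_inv, hs, hie]⟩))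
  have hord : ∀ i ∈ Q, i * i = 1 ∧ i ≠ 1 := fun i hi => by
    obtain ⟨c, hc⟩ := isConj_iff.mp (mem_cls.mp hi)
    refine ⟨by rw [← hc, conj_mul, S.J_sq]; group, ?_⟩
    rw [← hc, Ne, conj_eq_one_iff]
    exact S.J_ne
  have houtside : ∀ i ∈ Q, ∀ j ∈ Q, J n σ ∈ Subgroup.zpowers (i * j) → i ∈ R ∧ j ∈ R := by
    intro i hi j hj hJ
    obtain ⟨hi2, hi1⟩ := hord i hi
    obtain ⟨hj2, hj1⟩ := hord j hj
    have hii : i⁻¹ = i := inv_eq_of_mul_eq_one_right hi2
    have hjj : j⁻¹ = j := inv_eq_of_mul_eq_one_right hj2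
    obtain ⟨e, he⟩ := hJ
    simp only at he
    have hconj : i * (i * j) * i⁻¹ = (i * j)⁻¹ := by
      rw [mul_inv_rev, hii, hjj, show i * (i * j) * i = i * i * (j * i) by group, hi2, one_mul]
    have hiC : i ∈ Subgroup.centralizer ({J n σ} : Set G) := by
      refine Subgroup.mem_centralizer_singleton_iff.mpr (mul_inv_eq_iff_eq_mul.mp ?_)
      rw [← he, ← _root_.conj_zpow, hconj, inv_zpow, he, S.J_inv]
    have hgC : i * j ∈ Subgroup.centralizer ({J n σ} : Set G) := by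
      refine Subgroup.mem_centralizer_singleton_iff.mpr ?_
      rw [← he]; exact ((Commute.refl (i * j)).zpow_right e).eq
    have hjC : j ∈ Subgroup.centralizer ({J n σ} : Set G) := by
      have hje : j = i * (i * j) := by rw [← mul_assoc, hi2, one_mul]
      rw [hje]; exact mul_mem hiC hgC
    have hneJ : i ≠ J n σ ∧ j ≠ J n σ := by
      have key : (i * j) * (i * j) = 1 → i * j = J n σ := fun h => by
        rcases theta_eq_sum.zpow_eq_one_or_self_of_order_two (G := G)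
          (orderOf_eq_prime (p := 2) (by rw [pow_two, h]) (fun h0 => S.J_ne (by
            rw [← he, h0, one_zpow]))) e with h' | h'
        · exact absurd (he ▸ h') S.J_ne
        · rw [← he, h']
      constructor
      · intro h
        refine hj1 ?_
        have := key (by
          rw [h, (show Commute (J n σ) j from
            (Subgroup.mem_centralizer_singleton_iff.mp hjC).symm).symm.mul_mul_mul_comm, S.J_sq,
            hj2, one_mul])
        rw [h] at this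
        exact mul_eq_left.mp this
      · intro h
        refine hi1 ?_
        have := key (by
          rw [h, (show Commute i (J n σ) from
            Subgroup.mem_centralizer_singleton_iff.mp hiC).symm.mul_mul_mul_comm, S.J_sq,
            hi2, one_mul])
        rw [h] at this
        exact mul_eq_right.mp this
    constructor
    · obtain ⟨a, ha, k, hk, e'⟩ := S.refl_cases C hi2 hiC hi1 hneJ.1
      exact Finset.mem_biUnion.mpr ⟨a, Finset.mem_range.mpr ha,
        Finset.mem_filter.mpr ⟨Finset.mem_univ _, hi2, k, hk, e'⟩⟩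
    · obtain ⟨a, ha, k, hk, e'⟩ := S.refl_cases C hj2 hjC hj1 hneJ.2
      exact Finset.mem_biUnion.mpr ⟨a, Finset.mem_range.mpr ha,
        Finset.mem_filter.mpr ⟨Finset.mem_univ _, hj2, k, hk, e'⟩⟩
  have hdisj : Set.PairwiseDisjoint (↑(Finset.range (2 ^ (n - 1))) : Set ℕ) (cosetInv K σ τ) := by
    intro a ha b hb hab
    rw [Function.onFun, Finset.disjoint_left]
    intro i hia hib
    obtain ⟨-, -, k, hk, e1⟩ := Finset.mem_filter.mp hia
    obtain ⟨-, -, k', hk', e2⟩ := Finset.mem_filter.mp hib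
    have := (S.unique_decomp C (mul_mem (Subgroup.pow_mem _ S.hσ a) S.hτ)
      (mul_mem (Subgroup.pow_mem _ S.hσ b) S.hτ) hk hk' (e1.symm.trans e2)).1
    simp only [Finset.coe_range, Set.mem_Iio] at ha hb
    exact hab (pow_injOn_Iio_orderOf (Set.mem_Iio.mpr (S.ord ▸ ha)) (Set.mem_Iio.mpr (S.ord ▸ hb))
      (mul_right_cancel this))
  rw [← Finset.sum_subset hRQ fun i hi hn => Finset.sum_eq_zero fun j hj =>
      if_neg fun h => hn (houtside i hi j hj h).1,
    Finset.sum_congr rfl fun i hi => (Finset.sum_subset hRQ fun j hj hn =>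
      if_neg fun h => hn (houtside i (hRQ hi) j hj h).2).symm,
    hR, Finset.sum_biUnion hdisj]
  refine Finset.sum_congr rfl fun a _ => ?_
  rw [Finset.sum_congr rfl fun i _ => Finset.sum_biUnion hdisj, Finset.sum_comm]
  refine Finset.sum_congr rfl fun b _ => ?_
  rw [Finset.sum_congr rfl fun i hi => Finset.sum_congr rfl fun j hj => by
    obtain ⟨-, hi2, k, hk, e1⟩ := Finset.mem_filter.mp hi
    obtain ⟨-, hj2, k', hk', e2⟩ := Finset.mem_filter.mp hj
    exact S.coset_value C hM hζ hu hi2 hj2 hk hk' e1 e2]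
  rw [Finset.sum_const, Finset.sum_const, nsmul_eq_mul, nsmul_eq_mul, mul_assoc]

end Setup

end Cfsg.Agent.ZStar.Dih
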