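import Cfsg.Agent.ZStar.Blocks
import Cfsg.Agent.T51.SmallElements
import Cfsg.Agent.Lib.Transfer.Frobenius
import Mathlib.GroupTheory.Sylow
import Mathlib.FieldTheory.Finite.Basic

/-!
# A dihedral Sylow 2-subgroup: centralizers of rotations
-/

set_option autoImplicit false
set_option linter.unusedSectionVars false
set_option linter.style.haveILetI false

open Cfsg

namespace Cfsg.Agent.ZStar.Dih

variable {G : Type*} [Group G]

/-- Coordinates for a dihedral Sylow 2-subgroup of order `2 * 2 ^ (n - 1)`, `n ≥ 3`. -/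
structure Setup (P : Sylow 2 G) (n : ℕ) (σ τ : G) : Prop where
  hn : 3 ≤ n
  hσ : σ ∈ (P : Subgroup G)
  hτ : τ ∈ (P : Subgroup G)
  ord : orderOf σ = 2 ^ (n - 1)
  inv : orderOf τ = 2
  rel : τ * σ * τ⁻¹ = σ⁻¹
  gen : Subgroup.closure ({σ, τ} : Set G) = (P : Subgroup G)

variable {P : Sylow 2 G} {n : ℕ} {σ τ : G}

/-- The unique involution among the rotations. -/
def J (n : ℕ) (σ : G) : G := σ ^ (2 ^ (n - 2))

namespace Setup

variable (S : Setup P n σ τ)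
include S

theorem pow_succ_eq : 2 ^ (n - 1) = 2 * 2 ^ (n - 2) := by
  have := S.hn
  rw [← pow_succ']; congr 1; omega

theorem two_le : 2 ≤ 2 ^ (n - 2) := by
  calc 2 = 2 ^ 1 := (pow_one 2).symm
    _ ≤ 2 ^ (n - 2) := Nat.pow_le_pow_right (by norm_num) (by have := S.hn; omega)

theorem orderOf_J : orderOf (J n σ) = 2 := by
  rw [J, orderOf_pow' _ (by positivity), S.ord, S.pow_succ_eq, Nat.gcd_mul_left_left,
    Nat.mul_div_cancel _ (by positivity)]

theorem tau_ne : τ ≠ 1 := fun h => by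
  have := S.inv
  rw [h, orderOf_one] at this
  omega

theorem tau_sq : τ * τ = 1 := by
  rw [← pow_two, ← S.inv, pow_orderOf_eq_one]

theorem tau_inv : τ⁻¹ = τ := inv_eq_of_mul_eq_one_right S.tau_sq

theorem tau_conj_zpow (a : ℤ) : τ * σ ^ a * τ⁻¹ = σ ^ (-a) := by
  rw [← _root_.conj_zpow, S.rel, inv_zpow']

theorem tau_mul_zpow (a : ℤ) : τ * σ ^ a = σ ^ (-a) * τ := by
  conv_rhs => rw [← S.tau_conj_zpow a]
  group

theorem mem_cases {p : G} (hp : p ∈ (P : Subgroup G)) :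
    p ∈ Subgroup.zpowers σ ∨ ∃ a : ℤ, p = σ ^ a * τ := by
  rw [← S.gen] at hp
  induction hp using Subgroup.closure_induction with
  | mem x hx =>
    rcases hx with hx | hx
    · rw [hx]; exact Or.inl (Subgroup.mem_zpowers σ)
    · exact Or.inr ⟨0, by rw [Set.mem_singleton_iff.mp hx]; simp⟩
  | one => exact Or.inl (one_mem _)
  | mul x y _ _ hx hy =>
    rcases hx with ⟨a, rfl⟩ | ⟨a, rfl⟩ <;> rcases hy with ⟨b, rfl⟩ | ⟨b, rfl⟩
    · exact Or.inl ⟨a + b, zpow_add σ a b⟩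
    · exact Or.inr ⟨a + b, by simp only [zpow_add, mul_assoc]⟩
    · refine Or.inr ⟨a + -b, ?_⟩
      rw [mul_assoc, S.tau_mul_zpow, ← mul_assoc, zpow_add]
    · refine Or.inl ⟨a + -b, ?_⟩
      show σ ^ (a + -b) = σ ^ a * τ * (σ ^ b * τ)
      rw [show σ ^ a * τ * (σ ^ b * τ) = σ ^ a * (τ * σ ^ b) * τ by group, S.tau_mul_zpow,
        zpow_add, mul_assoc (σ ^ a), mul_assoc (σ ^ (-b)), S.tau_sq, mul_one]
  | inv x _ hx =>
    rcases hx with ⟨a, rfl⟩ | ⟨a, rfl⟩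
    · exact Or.inl ⟨-a, zpow_neg σ a⟩
    · refine Or.inr ⟨a, ?_⟩
      rw [mul_inv_rev, S.tau_inv, ← zpow_neg, S.tau_mul_zpow, neg_neg]

theorem zpowers_le : Subgroup.zpowers σ ≤ (P : Subgroup G) := Subgroup.zpowers_le.mpr S.hσ

theorem refl_sq (a : ℤ) : (σ ^ a * τ) * (σ ^ a * τ) = 1 := by
  rw [show σ ^ a * τ * (σ ^ a * τ) = σ ^ a * (τ * σ ^ a) * τ by group, S.tau_mul_zpow,
    ← mul_assoc, ← zpow_add, add_neg_cancel, zpow_zero, one_mul, S.tau_sq]

theorem refl_conj (a b : ℤ) : (σ ^ a * τ) * σ ^ b * (σ ^ a * τ)⁻¹ = σ ^ (-b) := by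
  rw [show σ ^ a * τ * σ ^ b * (σ ^ a * τ)⁻¹ = σ ^ a * (τ * σ ^ b * τ⁻¹) * (σ ^ a)⁻¹ by group,
    S.tau_conj_zpow, ← zpow_neg, ← zpow_add, ← zpow_add]
  congr 1; ring

theorem mem_zpowers_of_sq_ne {p : G} (hp : p ∈ (P : Subgroup G)) (h : p * p ≠ 1) :
    p ∈ Subgroup.zpowers σ := by
  rcases S.mem_cases hp with h1 | ⟨a, rfl⟩
  · exact h1
  · exact absurd (S.refl_sq a) h

theorem tau_notMem : τ ∉ Subgroup.zpowers σ := by
  rintro ⟨a, ha⟩
  have h1 : σ * σ = 1 := by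
    have h2 : τ * σ * τ⁻¹ = σ := by
      rw [← ha]; group
    rw [S.rel] at h2
    nth_rewrite 1 [← h2]
    exact inv_mul_cancel σ
  have h3 : orderOf σ ∣ 2 := orderOf_dvd_of_pow_eq_one (by rw [pow_two, h1])
  have h4 := Nat.le_of_dvd two_pos h3
  rw [S.ord, S.pow_succ_eq] at h4
  have := S.two_le
  omega

theorem refl_notMem (a : ℤ) : σ ^ a * τ ∉ Subgroup.zpowers σ := fun h =>
  S.tau_notMem ((Subgroup.mul_mem_cancel_left _ (Subgroup.zpow_mem_zpowers σ a)).mp h)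

/-- In `P`, an element of order at least three is inverted or centralized. -/
theorem conj_eq_or {x z : G} (hx : x ∈ Subgroup.zpowers σ) (hz : z ∈ (P : Subgroup G)) :
    (z ∈ Subgroup.zpowers σ ∧ z * x * z⁻¹ = x) ∨
      (z ∉ Subgroup.zpowers σ ∧ z * x * z⁻¹ = x⁻¹) := by
  obtain ⟨b, rfl⟩ := hx
  rcases S.mem_cases hz with ⟨a, rfl⟩ | ⟨a, rfl⟩
  · refine Or.inl ⟨⟨a, rfl⟩, ?_⟩
    rw [← zpow_neg, ← zpow_add, ← zpow_add]; congr 1; ring
  · exact Or.inr ⟨S.refl_notMem a, by rw [S.refl_conj, zpow_neg]⟩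

theorem isComm_zpowers {x : G} (hx : x ∈ Subgroup.zpowers σ) {z : G}
    (hz : z ∈ Subgroup.zpowers σ) : z * x = x * z := by
  obtain ⟨a, rfl⟩ := hx
  obtain ⟨b, rfl⟩ := hz
  exact zpow_mul_comm σ b a

theorem J_mem : J n σ ∈ Subgroup.zpowers σ := Subgroup.pow_mem _ (Subgroup.mem_zpowers σ) _

theorem J_ne : J n σ ≠ 1 := fun h => by
  have := S.orderOf_J
  rw [h, orderOf_one] at this
  omega

theorem eq_J_of_sq {x : G} (hx : x ∈ Subgroup.zpowers σ) (h2 : x * x = 1) (h1 : x ≠ 1) :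
    x = J n σ := by
  have hm : 0 < orderOf σ := by rw [S.ord]; positivity
  obtain ⟨l, hl⟩ := (orderOf_pos_iff.mp hm).mem_powers_iff_mem_zpowers.mpr hx
  simp only at hl
  subst hl
  rw [← pow_mod_orderOf, S.ord] at h1 h2 ⊢
  set r := l % 2 ^ (n - 1)
  have hr : r < 2 ^ (n - 1) := Nat.mod_lt _ (by positivity)
  have hdvd : 2 ^ (n - 1) ∣ r + r := by
    rw [← S.ord]; exact orderOf_dvd_of_pow_eq_one (by rw [pow_add, h2])
  rw [S.pow_succ_eq] at hdvd hr
  obtain ⟨c, hc⟩ := hdvd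
  have hc2 : c < 2 := by
    by_contra hge
    have : 2 * 2 ^ (n - 2) * 2 ≤ 2 * 2 ^ (n - 2) * c := Nat.mul_le_mul_left _ (by omega)
    omega
  match c, hc2 with
  | 0, _ => exact absurd (by rw [show r = 0 by omega, pow_zero]) h1
  | 1, _ => rw [J]; congr 1; omega

theorem J_mem_zpowers_of_ne {x : G} (hx : x ∈ Subgroup.zpowers σ) (h1 : x ≠ 1) :
    J n σ ∈ Subgroup.zpowers x := by
  haveI : Fact (Nat.Prime 2) := ⟨Nat.prime_two⟩
  obtain ⟨k, hk⟩ := P.2 ⟨x, S.zpowers_le hx⟩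
  have hxk : x ^ 2 ^ k = 1 := congrArg Subtype.val hk
  have : ∃ i, orderOf x = 2 ^ i := exists_orderOf_eq_prime_pow_iff.mpr ⟨k, hxk⟩
  obtain ⟨i, hi⟩ := this
  obtain ⟨j, rfl⟩ : ∃ j, i = j + 1 := by
    refine ⟨i - 1, ?_⟩
    rcases Nat.eq_zero_or_pos i with h | h
    · exact absurd (orderOf_eq_one_iff.mp (by rw [hi, h, pow_zero])) h1
    · omega
  have h2 : x ^ 2 ^ j * x ^ 2 ^ j = 1 := by
    rw [← pow_add, show 2 ^ j + 2 ^ j = 2 ^ (j + 1) by ring, ← hi, pow_orderOf_eq_one]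
  have hne : x ^ 2 ^ j ≠ 1 := fun h => by
    have := Nat.le_of_dvd (by positivity) (orderOf_dvd_of_pow_eq_one h)
    rw [hi, pow_succ] at this
    have : 0 < 2 ^ j := by positivity
    omega
  rw [← S.eq_J_of_sq (Subgroup.pow_mem _ hx _) h2 hne]
  exact Subgroup.pow_mem _ (Subgroup.mem_zpowers x) _

/-- A 2-element commuting with an element of order at least three of `P` lies, up to
conjugation, among the rotations: here for the whole 2-group. -/
theorem sq_one_or_zpowers {p : G} (hp : p ∈ (P : Subgroup G)) :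
    p * p = 1 ∨ p ∈ Subgroup.zpowers σ :=
  (em (p * p = 1)).imp_right fun h => S.mem_zpowers_of_sq_ne hp h

/-- In any 2-subgroup, an element of order at least three is centralized or inverted. -/
theorem two_group_conj [Finite G] {R : Subgroup G} (hR : IsPGroup 2 R) {x z : G} (hx : x ∈ R)
    (hz : z ∈ R) (hx2 : x * x ≠ 1) : z * x * z⁻¹ = x ∨ z * x * z⁻¹ = x⁻¹ := by
  haveI : Fact (Nat.Prime 2) := ⟨Nat.prime_two⟩
  obtain ⟨Q, hQ⟩ := hR.exists_le_sylow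
  obtain ⟨g, hg⟩ := MulAction.exists_smul_eq G Q P
  have hmap : ∀ y ∈ R, g * y * g⁻¹ ∈ (P : Subgroup G) := fun y hy => by
    rw [← hg, Sylow.coe_subgroup_smul, Subgroup.mem_pointwise_smul_iff_inv_smul_mem]
    simpa [MulAut.smul_def, mul_assoc] using hQ hy
  have hxT : g * x * g⁻¹ ∈ Subgroup.zpowers σ := S.mem_zpowers_of_sq_ne (hmap x hx) fun h => hx2 (by
    rwa [conj_mul, conj_eq_one_iff] at h)
  have e : g * z * g⁻¹ * (g * x * g⁻¹) * (g * z * g⁻¹)⁻¹ = g * (z * x * z⁻¹) * g⁻¹ := by group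
  rcases S.conj_eq_or hxT (hmap z hz) with ⟨-, h⟩ | ⟨-, h⟩
  · exact Or.inl (mul_left_cancel (mul_right_cancel (e.symm.trans h)))
  · refine Or.inr (mul_left_cancel (a := g) (mul_right_cancel (b := g⁻¹) ?_))
    rw [← e, h, conj_inv]

/-- In any 2-subgroup, the centralizer of an element of order at least three has at most
`2 ^ (n - 1)` elements. -/
theorem two_group_card [Finite G] {R : Subgroup G} (hR : IsPGroup 2 R) {x : G} (hx : x ∈ R)
    (hRx : R ≤ Subgroup.centralizer ({x} : Set G)) (hx2 : x * x ≠ 1) :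
    Nat.card R ≤ 2 ^ (n - 1) := by
  haveI : Fact (Nat.Prime 2) := ⟨Nat.prime_two⟩
  obtain ⟨Q, hQ⟩ := hR.exists_le_sylow
  obtain ⟨g, hg⟩ := MulAction.exists_smul_eq G Q P
  have hmap : ∀ y ∈ R, g * y * g⁻¹ ∈ (P : Subgroup G) := fun y hy => by
    rw [← hg, Sylow.coe_subgroup_smul, Subgroup.mem_pointwise_smul_iff_inv_smul_mem]
    simpa [MulAut.smul_def, mul_assoc] using hQ hy
  have hx2' : g * x * g⁻¹ * (g * x * g⁻¹) ≠ 1 := by
    rw [conj_mul, Ne, conj_eq_one_iff]; exact hx2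
  have hxT := S.mem_zpowers_of_sq_ne (hmap x hx) hx2'
  have hin : ∀ y ∈ R, g * y * g⁻¹ ∈ Subgroup.zpowers σ := by
    intro y hy
    rcases S.conj_eq_or hxT (hmap y hy) with ⟨h, -⟩ | ⟨-, h⟩
    · exact h
    · refine absurd ?_ hx2'
      have hc : y * x * y⁻¹ = x :=
        mul_inv_eq_iff_eq_mul.mpr (Subgroup.mem_centralizer_singleton_iff.mp (hRx hy))
      rw [show g * y * g⁻¹ * (g * x * g⁻¹) * (g * y * g⁻¹)⁻¹ = g * (y * x * y⁻¹) * g⁻¹ by group,
        hc] at h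
      nth_rewrite 1 [h]
      exact inv_mul_cancel _
  rw [← S.ord, ← Nat.card_zpowers]
  exact Nat.card_le_card_of_injective (fun y : R => (⟨g * y * g⁻¹, hin y y.2⟩ : Subgroup.zpowers σ))
    fun a b h => Subtype.ext (mul_left_cancel (mul_right_cancel (congrArg Subtype.val h)))

end Setup

end Cfsg.Agent.ZStar.Dih
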