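import Cfsg.Agent.ZStar.DihedralBlock.Mult

/-!
# The principal 2-block of a group with dihedral Sylow 2-subgroups
-/

set_option autoImplicit false
set_option linter.unusedSectionVars false
set_option linter.style.haveILetI false

open Cfsg
open scoped ComplexConjugate

namespace Cfsg.Agent.ZStar.Dih

variable {ι : Type*}

open scoped Classical in
theorem sq_support (s : Finset ι) (f : ι → ℤ) (c : ℕ) (hc : c ≤ 3)
    (h : ∑ x ∈ s, f x * f x = (c : ℤ)) :
    (∀ x ∈ s, f x = 0 ∨ f x = 1 ∨ f x = -1) ∧ (s.filter fun x => f x ≠ 0).card = c := by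
  have hb : ∀ x ∈ s, f x = 0 ∨ f x = 1 ∨ f x = -1 := by
    intro x hx
    have h1 : f x * f x ≤ 3 := by
      have := Finset.single_le_sum (f := fun x => f x * f x) (fun y _ => mul_self_nonneg _) hx
      simp only [h] at this
      exact this.trans (by exact_mod_cast hc)
    have hlo : -1 ≤ f x := by nlinarith
    have hhi : f x ≤ 1 := by nlinarith
    omega
  refine ⟨hb, ?_⟩
  have h2 : ∑ x ∈ s, f x * f x = ∑ x ∈ s, if f x ≠ 0 then (1 : ℤ) else 0 := by
    refine Finset.sum_congr rfl fun x hx => ?_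
    rcases hb x hx with e | e | e <;> simp [e]
  rw [h2, Finset.sum_boole] at h
  exact_mod_cast h

open scoped Classical in
/-- Two signed supports with inner product one meet in exactly one point. -/
theorem inner_one (s : Finset ι) (f g : ι → ℤ)
    (hf : ∀ x ∈ s, f x = 0 ∨ f x = 1 ∨ f x = -1) (hg : ∀ x ∈ s, g x = 0 ∨ g x = 1 ∨ g x = -1)
    (hcard : (s.filter fun x => f x ≠ 0).card ≤ 2) (h : ∑ x ∈ s, f x * g x = 1) :
    ∃ a ∈ s, f a ≠ 0 ∧ f a = g a ∧ ∀ x ∈ s, f x ≠ 0 → g x ≠ 0 → x = a := by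
  set I := s.filter fun x => f x ≠ 0 ∧ g x ≠ 0 with hI
  have hsum : ∑ x ∈ I, f x * g x = 1 := by
    rw [hI, Finset.sum_filter, ← h]
    refine Finset.sum_congr rfl fun x _ => ?_
    by_cases h1 : f x = 0
    · simp [h1]
    · by_cases h2 : g x = 0
      · simp [h2]
      · rw [if_pos ⟨h1, h2⟩]
  have hunit : ∀ x ∈ I, f x * g x = 1 ∨ f x * g x = -1 := by
    intro x hx
    obtain ⟨hxs, h1, h2⟩ := Finset.mem_filter.mp hx
    rcases hf x hxs with e | e | e <;> rcases hg x hxs with e' | e' | e' <;> simp_all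
  have hI2 : I.card ≤ 2 := le_trans (Finset.card_le_card fun x hx => by
    obtain ⟨hxs, h1, -⟩ := Finset.mem_filter.mp hx
    exact Finset.mem_filter.mpr ⟨hxs, h1⟩) hcard
  have hI1 : I.card = 1 := by
    by_contra hne
    have hcases : I.card = 0 ∨ I.card = 2 := by omega
    rcases hcases with h0 | h2
    · rw [Finset.card_eq_zero.mp h0] at hsum; simp at hsum
    · obtain ⟨x, y, hxy, he⟩ := Finset.card_eq_two.mp h2
      rw [he, Finset.sum_pair hxy] at hsum
      rcases hunit x (by simp [he]) with e | e <;> rcases hunit y (by simp [he]) with e' | e' <;> omega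
  obtain ⟨a, ha⟩ := Finset.card_eq_one.mp hI1
  obtain ⟨has, ha1, ha2⟩ := Finset.mem_filter.mp (show a ∈ I by simp [ha])
  rw [ha, Finset.sum_singleton] at hsum
  refine ⟨a, has, ha1, ?_, fun x hx h1 h2 => ?_⟩
  · rcases hf a has with e | e | e <;> rcases hg a has with e' | e' | e' <;> simp_all
  · have : x ∈ I := Finset.mem_filter.mpr ⟨hx, h1, h2⟩
    rwa [ha, Finset.mem_singleton] at this

variable {G : Type*} [Group G] [Fintype G] {P : Sylow 2 G} {n : ℕ} {σ τ : G} {M : Ideal AlgInt}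
  {ζ : ℂ} {u : IrrCharacter G → ℕ → ℤ}

/-- The labelled principal block. -/
structure Shape (M : Ideal AlgInt) (n : ℕ) (u : IrrCharacter G → ℕ → ℤ) (a c d : IrrCharacter G)
    (b : ℕ → IrrCharacter G) (δ δc δd : ℤ) : Prop where
  sign : (δ = 1 ∨ δ = -1) ∧ (δc = 1 ∨ δc = -1) ∧ (δd = 1 ∨ δd = -1)
  ne_one : a ≠ BlocksDefect.oneIrr G ∧ c ≠ BlocksDefect.oneIrr G ∧ d ≠ BlocksDefect.oneIrr G ∧
    ∀ j, 0 < j → j < 2 ^ (n - 2) → b j ≠ BlocksDefect.oneIrr G
  ne : a ≠ c ∧ a ≠ d ∧ c ≠ d ∧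
    ∀ j, 0 < j → j < 2 ^ (n - 2) → b j ≠ a ∧ b j ≠ c ∧ b j ≠ d
  inj : ∀ j k, 0 < j → j < 2 ^ (n - 2) → 0 < k → k < 2 ^ (n - 2) → b j = b k → j = k
  mem : ∀ χ, χ ∈ principalBlock M G ↔ χ = BlocksDefect.oneIrr G ∨ χ = a ∨ χ = c ∨ χ = d ∨
    ∃ j, 0 < j ∧ j < 2 ^ (n - 2) ∧ χ = b j
  vec : ∀ j, 0 < j → j < 2 ^ (n - 2) → ∀ f : IrrCharacter G → ℂ,
    ∑ χ ∈ blk M G, (u χ j : ℂ) * f χ =
      -f (BlocksDefect.oneIrr G) - (δ : ℂ) * f a + (δ : ℂ) * f (b j)
  vech : ∀ f : IrrCharacter G → ℂ, ∑ χ ∈ blk M G, (u χ (2 ^ (n - 2)) : ℂ) * f χ =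
      -f (BlocksDefect.oneIrr G) - (δ : ℂ) * f a - (δc : ℂ) * f c - (δd : ℂ) * f d
  ua : ∀ j, 0 < j → j ≤ 2 ^ (n - 2) → u a j = -δ
  ub : ∀ j k, 0 < j → j < 2 ^ (n - 2) → 0 < k → k ≤ 2 ^ (n - 2) →
    u (b j) k = if k = j then δ else 0
  uc : (∀ j, 0 < j → j < 2 ^ (n - 2) → u c j = 0 ∧ u d j = 0) ∧
    u c (2 ^ (n - 2)) = -δc ∧ u d (2 ^ (n - 2)) = -δd

namespace Setup

variable (S : Setup P n σ τ)
include S

theorem isPPart_one : IsPPart 2 (1 : G) 1 :=
  ⟨1, one_mul 1, Commute.refl 1, ⟨0, by simp⟩, by rw [orderOf_one]; norm_num⟩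

theorem apply_J_ne_zero (hM : IsPModular 2 M) {χ : IrrCharacter G} (hχ : χ ∈ principalBlock M G) :
    (χ : G → ℂ) (J n σ) ≠ 0 := by
  haveI : Fact (Nat.Prime 2) := ⟨Nat.prime_two⟩
  intro h0
  have h := hχ (J n σ)
  rw [centralChar, centralChar, h0, mul_zero, zero_div, sub_zero, mul_one, div_one,
    BlocksCore.memLocalIdeal_natCast_iff hM] at h
  have hle : (P : Subgroup G) ≤ Subgroup.centralizer ({J n σ} : Set G) := fun p hp =>
    Subgroup.mem_centralizer_singleton_iff.mpr (S.J_comm hp)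
  exact P.not_dvd_index (h.trans (Subgroup.index_dvd_of_le hle))

theorem degree_eq (hM : IsPModular 2 M) (hζ : IsPrimitiveRoot ζ (2 ^ (n - 1))) (hu : Vec n σ ζ u)
    {j : ℕ} (hj : j < 2 ^ (n - 1)) :
    ∑ χ ∈ blk M G, u χ j * (charDegree (χ : G → ℂ) : ℤ) = 0 := by
  have h := S.theta_off hM hζ hu S.isPPart_one hj (fun l h0 hl hc =>
    S.rot_ne_one h0 hl (isConj_one_right.mp hc))
  simp only [BlocksCore.irr_one_eq] at h
  exact_mod_cast h

theorem oneIrr_mem_blk (hM : IsPModular 2 M) : BlocksDefect.oneIrr G ∈ blk M G := by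
  haveI : Fact (Nat.Prime 2) := ⟨Nat.prime_two⟩
  haveI := BlocksCore.isPrime hM
  exact mem_blk.mpr BlocksDefect.oneIrr_mem

theorem exists_shape (hM : IsPModular 2 M) (hζ : IsPrimitiveRoot ζ (2 ^ (n - 1)))
    (hu : Vec n σ ζ u) :
    ∃ (a c d : IrrCharacter G) (b : ℕ → IrrCharacter G) (δ δc δd : ℤ),
      Shape M n u a c d b δ δc δd := by
  classical
  set h := 2 ^ (n - 2) with hhdef
  have hmh : 2 ^ (n - 1) = 2 * h := S.pow_succ_eq
  have h2 : 2 ≤ h := S.two_le
  set e₀ := BlocksDefect.oneIrr G with he0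
  have he0m := S.oneIrr_mem_blk hM
  set B' := (blk M G).erase e₀ with hB'
  have hone : ∀ j, 0 < j → j ≤ h → u e₀ j = -1 := fun j h0 hj =>
    S.vec_one hζ hu (BlocksDefect.coe_oneIrr) h0 (by omega)
  have hg : ∀ j k, 0 < j → 0 < k → j ≤ h → k ≤ h →
      ∑ χ ∈ B', u χ j * u χ k =
        (if j + k = 2 * h then 1 else 0) + (if j = k then 1 else 0) + 1 := by
    intro j k hj0 hk0 hj hk
    have := S.gram hM hζ hu hj0 hk0 hj hk
    rw [hmh, ← Finset.add_sum_erase _ _ he0m, hone j hj0 hj, hone k hk0 hk] at this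
    linarith
  have hJ : ∀ j, 0 < j → j < h → (∀ x ∈ B', u x j = 0 ∨ u x j = 1 ∨ u x j = -1) ∧
      (B'.filter fun x => u x j ≠ 0).card = 2 := fun j h0 hj =>
    sq_support B' (u · j) 2 (by norm_num) (by
      rw [hg j j h0 h0 hj.le hj.le, if_neg (by omega), if_pos rfl]; norm_num)
  have hH : (∀ x ∈ B', u x h = 0 ∨ u x h = 1 ∨ u x h = -1) ∧
      (B'.filter fun x => u x h ≠ 0).card = 3 :=
    sq_support B' (u · h) 3 le_rfl (by
      rw [hg h h (by omega) (by omega) le_rfl le_rfl, if_pos (by omega), if_pos rfl]; norm_num)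
  set Sh := B'.filter fun x => u x h ≠ 0 with hSh
  -- the element shared with the last vector, and the other one
  have hA : ∀ j, 0 < j → j < h → ∃ a b : IrrCharacter G, a ∈ B' ∧ b ∈ B' ∧ a ≠ b ∧ u a j ≠ 0 ∧
      u b j ≠ 0 ∧ u a j = u a h ∧ u b h = 0 ∧ (∀ x ∈ B', u x j ≠ 0 → x = a ∨ x = b) := by
    intro j h0 hj
    have hin : ∑ χ ∈ B', u χ j * u χ h = 1 := by
      rw [hg j h h0 (by omega) hj.le le_rfl, if_neg (by omega), if_neg hj.ne]
      norm_num
    obtain ⟨a, haB, ha, hah, huniq⟩ := inner_one B' (u · j) (u · h) (hJ j h0 hj).1 hH.1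
      (hJ j h0 hj).2.le hin
    obtain ⟨x, y, hxy, he⟩ := Finset.card_eq_two.mp (hJ j h0 hj).2
    have hmem : ∀ z, z ∈ B'.filter (fun x => u x j ≠ 0) ↔ z = x ∨ z = y := fun z => by simp [he]
    obtain ⟨hxB, hxj⟩ := Finset.mem_filter.mp ((hmem x).mpr (Or.inl rfl))
    obtain ⟨hyB, hyj⟩ := Finset.mem_filter.mp ((hmem y).mpr (Or.inr rfl))
    have hall : ∀ z ∈ B', u z j ≠ 0 → z = x ∨ z = y := fun z hz hzj =>
      (hmem z).mp (Finset.mem_filter.mpr ⟨hz, hzj⟩)
    rcases hall a haB ha with rfl | rfl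
    · refine ⟨a, y, haB, hyB, hxy, ha, hyj, hah, ?_, hall⟩
      by_contra hyh; exact hxy (huniq y hyB hyj hyh).symm
    · refine ⟨a, x, haB, hxB, hxy.symm, ha, hxj, hah, ?_, fun z hz hzj => (hall z hz hzj).symm⟩
      by_contra hxh; exact hxy (huniq x hxB hxj hxh)
  haveI : Nonempty (IrrCharacter G) := ⟨e₀⟩
  choose! A Bf hAB hBB hne hAj hBj hAh hBh hall using hA
  have hshare : ∀ j k, 0 < j → j < h → 0 < k → k < h → j ≠ k →
      ∃ z ∈ B', u z j ≠ 0 ∧ u z k ≠ 0 ∧ u z j = u z k ∧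
        ∀ x ∈ B', u x j ≠ 0 → u x k ≠ 0 → x = z := by
    intro j k hj0 hj hk0 hk hne'
    obtain ⟨z, hz, h1, h2, h3⟩ := inner_one B' (u · j) (u · k) (hJ j hj0 hj).1 (hJ k hk0 hk).1
      (hJ j hj0 hj).2.le (by rw [hg j k hj0 hk0 hj.le hk.le, if_neg (by omega), if_neg hne']; norm_num)
    exact ⟨z, hz, h1, h2 ▸ h1, h2, h3⟩
  have hdiffA : ∀ j k, 0 < j → j < h → 0 < k → k < h → A j ≠ A k →
      Bf j = Bf k ∧ u (Bf j) j = u (Bf j) k := by
    intro j k hj0 hj hk0 hk hne'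
    obtain ⟨z, hz, hzj, hzk, heq, -⟩ := hshare j k hj0 hj hk0 hk (fun e => hne' (by rw [e]))
    rcases hall j hj0 hj z hz hzj with e1 | e1
    · rcases hall k hk0 hk z hz hzk with e2 | e2
      · exact absurd (e1.symm.trans e2) hne'
      · refine absurd ?_ (hAj j hj0 hj)
        rw [hAh j hj0 hj, ← e1, e2, hBh k hk0 hk]
    · rcases hall k hk0 hk z hz hzk with e2 | e2
      · refine absurd ?_ (hAj k hk0 hk)
        rw [hAh k hk0 hk, ← e2, e1, hBh j hj0 hj]
      · exact ⟨e1.symm.trans e2, e1 ▸ heq⟩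
  have hsameA : ∀ j k, 0 < j → j < h → 0 < k → k < h → j ≠ k → A j = A k → Bf j ≠ Bf k := by
    intro j k hj0 hj hk0 hk hne' hA' hB2
    obtain ⟨z, -, -, -, -, huniq⟩ := hshare j k hj0 hj hk0 hk hne'
    exact hne j hj0 hj ((huniq (A j) (hAB j hj0 hj) (hAj j hj0 hj) (hA' ▸ hAj k hk0 hk)).trans
      (huniq (Bf j) (hBB j hj0 hj) (hBj j hj0 hj) (hB2 ▸ hBj k hk0 hk)).symm)
  have hdeg : ∀ j, 0 < j → j ≤ h →
      ∑ χ ∈ B', u χ j * (charDegree (χ : G → ℂ) : ℤ) = 1 := by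
    intro j hj0 hj
    have := S.degree_eq hM hζ hu (j := j) (by omega)
    rw [← Finset.add_sum_erase _ _ he0m, hone j hj0 hj] at this
    have h1 : charDegree (e₀ : G → ℂ) = 1 := by simp [he0, BlocksDefect.coe_oneIrr, charDegree]
    rw [h1] at this
    push_cast at this
    linarith
  have hdeg2 : ∀ j, 0 < j → j < h → u (A j) j * (charDegree (A j : G → ℂ) : ℤ) +
      u (Bf j) j * (charDegree (Bf j : G → ℂ) : ℤ) = 1 := by
    intro j hj0 hj
    refine Eq.trans ?_ (hdeg j hj0 hj.le)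
    rw [← Finset.sum_pair (f := fun χ => u χ j * (charDegree (χ : G → ℂ) : ℤ)) (hne j hj0 hj)]
    refine Finset.sum_subset ?_ fun x hx hxn => ?_
    · intro x hx
      simp only [Finset.mem_insert, Finset.mem_singleton] at hx
      rcases hx with rfl | rfl
      · exact hAB j hj0 hj
      · exact hBB j hj0 hj
    · have : u x j = 0 := by
        by_contra hx0
        exact hxn (by simpa using hall j hj0 hj x hx hx0)
      rw [this, zero_mul]
  have hcenter : ∀ j, 0 < j → j < h → A j = A 1 := by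
    by_contra hno
    simp only [not_forall] at hno
    obtain ⟨k, hk0, hk, hk1⟩ := hno
    have hinj : Set.InjOn A (Finset.Ico 1 h : Set ℕ) := by
      intro l hl l' hl' e
      simp only [Finset.coe_Ico, Set.mem_Ico] at hl hl'
      by_contra hll
      obtain ⟨w, hw0, hw, hwne⟩ : ∃ w, 0 < w ∧ w < h ∧ A w ≠ A l := by
        by_cases h' : A 1 = A l
        · exact ⟨k, hk0, hk, fun e' => hk1 (e'.trans h'.symm)⟩
        · exact ⟨1, Nat.one_pos, by omega, h'⟩
      exact hsameA l l' hl.1 hl.2 hl'.1 hl'.2 hll e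
        ((hdiffA w l hw0 hw hl.1 hl.2 hwne).1.symm.trans
          (hdiffA w l' hw0 hw hl'.1 hl'.2 (e ▸ hwne)).1)
    have hsub : (Finset.Ico 1 h).image A ⊆ Sh := by
      intro x hx
      obtain ⟨l, hl, rfl⟩ := Finset.mem_image.mp hx
      rw [Finset.mem_Ico] at hl
      exact Finset.mem_filter.mpr ⟨hAB l hl.1 hl.2, hAh l hl.1 hl.2 ▸ hAj l hl.1 hl.2⟩
    have hci : ((Finset.Ico 1 h).image A).card = h - 1 := by
      rw [Finset.card_image_of_injOn hinj, Nat.card_Ico]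
    have hle := Finset.card_le_card hsub
    rw [hci, hH.2] at hle
    have hk2 : k ≠ 1 := fun e => hk1 (by rw [e])
    have h4 : h = 4 := by
      have hn5 : n - 2 < 3 := (Nat.pow_lt_pow_iff_right (by norm_num : 1 < 2)).mp
        (lt_of_le_of_lt (show 2 ^ (n - 2) ≤ 4 by omega) (by norm_num : 4 < 2 ^ 3))
      have hn2 : n - 2 = 0 ∨ n - 2 = 1 ∨ n - 2 = 2 := by omega
      have hh' : h = 2 ^ (n - 2) := hhdef
      rcases hn2 with e | e | e <;> rw [e] at hh' <;> norm_num at hh' <;> omega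
    have himg : (Finset.Ico 1 h).image A = Sh :=
      Finset.eq_of_subset_of_card_le hsub (by rw [hci, hH.2]; omega)
    have hsumh : ∑ l ∈ Finset.Ico 1 h, u (A l) l * (charDegree (A l : G → ℂ) : ℤ) = 1 := by
      rw [← hdeg h (by omega) le_rfl]
      refine Eq.trans (Finset.sum_congr rfl fun l hl => ?_) ((Finset.sum_image (f := fun χ => u χ h * (charDegree (χ : G → ℂ) : ℤ)) hinj).symm.trans ?_)
        (b := ∑ l ∈ Finset.Ico 1 h, (fun χ => u χ h * (charDegree (χ : G → ℂ) : ℤ)) (A l))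
      · rw [Finset.mem_Ico] at hl; rw [hAh l hl.1 hl.2]
      · show ∑ χ ∈ (Finset.Ico 1 h).image A, u χ h * (charDegree (χ : G → ℂ) : ℤ) = _
        rw [himg, hSh, Finset.sum_filter]
        exact Finset.sum_congr rfl fun x _ => by
          by_cases hx : u x h = 0 <;> simp [hx]
    have hconst : ∀ l ∈ Finset.Ico 1 h,
        u (A l) l * (charDegree (A l : G → ℂ) : ℤ) =
          1 - u (Bf k) k * (charDegree (Bf k : G → ℂ) : ℤ) := by
      intro l hl
      rw [Finset.mem_Ico] at hl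
      have hd := hdeg2 l hl.1 hl.2
      by_cases hlk : l = k
      · rw [← hlk]; linarith
      · have hAne : A k ≠ A l := fun e => hlk (hinj (by simpa using hl)
          (by simpa using ⟨hk0, hk⟩) e.symm)
        obtain ⟨e1, e2⟩ := hdiffA k l hk0 hk hl.1 hl.2 hAne
        rw [e1] at e2
        rw [e1, e2]
        linarith
    rw [Finset.sum_congr rfl hconst, Finset.sum_const, Nat.card_Ico, h4] at hsumh
    simp only [show 4 - 1 = 3 from rfl, nsmul_eq_mul, Nat.cast_ofNat] at hsumh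
    omega
  -- conclusion
  set a := A 1 with ha
  set ε := u a h with hε
  have haS : a ∈ Sh := Finset.mem_filter.mpr
    ⟨hAB 1 Nat.one_pos (by omega), hAh 1 Nat.one_pos (by omega) ▸ hAj 1 Nat.one_pos (by omega)⟩
  obtain ⟨c, d, hcd, hcde⟩ := Finset.card_eq_two.mp
    (show (Sh.erase a).card = 2 by rw [Finset.card_erase_of_mem haS, hH.2])
  have hcS : c ∈ Sh ∧ c ≠ a := by
    have : c ∈ Sh.erase a := by rw [hcde]; simp
    exact ⟨(Finset.mem_erase.mp this).2, (Finset.mem_erase.mp this).1⟩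
  have hdS : d ∈ Sh ∧ d ≠ a := by
    have : d ∈ Sh.erase a := by rw [hcde]; simp
    exact ⟨(Finset.mem_erase.mp this).2, (Finset.mem_erase.mp this).1⟩
  obtain ⟨hcB, hch⟩ := Finset.mem_filter.mp hcS.1
  obtain ⟨hdB, hdh⟩ := Finset.mem_filter.mp hdS.1
  obtain ⟨haB, hah⟩ := Finset.mem_filter.mp haS
  have hallh : ∀ x ∈ B', u x h ≠ 0 → x = a ∨ x = c ∨ x = d := by
    intro x hx hxh
    by_cases hxa : x = a
    · exact Or.inl hxa
    · have : x ∈ Sh.erase a := Finset.mem_erase.mpr ⟨hxa, Finset.mem_filter.mpr ⟨hx, hxh⟩⟩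
      rw [hcde] at this
      simpa using Or.inr this
  have hεsign : ε = 1 ∨ ε = -1 := (hH.1 a haB).resolve_left hah
  have huaj : ∀ j, 0 < j → j ≤ h → u a j = ε := by
    intro j hj0 hj
    rcases hj.eq_or_lt with rfl | hlt
    · rfl
    · rw [hε, ← hcenter j hj0 hlt, hAh j hj0 hlt]
  have hδ : ∀ j, 0 < j → j < h → u (Bf j) j = -ε := by
    intro j hj0 hj
    have hd := hdeg2 j hj0 hj
    rw [hcenter j hj0 hj, huaj j hj0 hj.le] at hd
    have p1 : (1 : ℤ) ≤ charDegree (a : G → ℂ) := by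
      have := BlocksCore.irr_one_ne_zero a
      rw [BlocksCore.irr_one_eq, Nat.cast_ne_zero] at this
      omega
    have p2 : (1 : ℤ) ≤ charDegree (Bf j : G → ℂ) := by
      have := BlocksCore.irr_one_ne_zero (Bf j)
      rw [BlocksCore.irr_one_eq, Nat.cast_ne_zero] at this
      omega
    have hb0 := hBj j hj0 hj
    rcases hεsign with e | e <;> rcases (hJ j hj0 hj).1 _ (hBB j hj0 hj) with e' | e' | e' <;>
      rw [e, e'] at hd <;> omega
  have hmemB' : ∀ x, x ∈ B' → x ≠ e₀ := fun x hx => (Finset.mem_erase.mp hx).1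
  have hbne : ∀ j, 0 < j → j < h → Bf j ≠ a ∧ Bf j ≠ c ∧ Bf j ≠ d := fun j hj0 hj =>
    ⟨fun e => hah (e ▸ hBh j hj0 hj), fun e => hch (e ▸ hBh j hj0 hj),
      fun e => hdh (e ▸ hBh j hj0 hj)⟩
  have hBinj : ∀ j k, 0 < j → j < h → 0 < k → k < h → Bf j = Bf k → j = k := by
    intro j k hj0 hj hk0 hk e
    by_contra hne'
    exact hsameA j k hj0 hj hk0 hk hne' ((hcenter j hj0 hj).trans (hcenter k hk0 hk).symm) e
  have hsupp : ∀ x ∈ B', ∀ j, 0 < j → j < h → u x j ≠ 0 → x = a ∨ x = Bf j := by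
    intro x hx j hj0 hj hx0
    rw [← hcenter j hj0 hj]
    exact hall j hj0 hj x hx hx0
  have hucd : ∀ x ∈ B', x ≠ a → (∀ j, 0 < j → j < h → x ≠ Bf j) →
      ∀ j, 0 < j → j < h → u x j = 0 := by
    intro x hx hxa hxb j hj0 hj
    by_contra hx0
    rcases hsupp x hx j hj0 hj hx0 with e | e
    · exact hxa e
    · exact hxb j hj0 hj e
  refine ⟨a, c, d, Bf, -ε, -u c h, -u d h,
    { sign := ?_, ne_one := ?_, ne := ?_, inj := hBinj, mem := ?_, vec := ?_, vech := ?_,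
      ua := ?_, ub := ?_, uc := ?_ }⟩
  · have := (hH.1 c hcB).resolve_left hch
    have := (hH.1 d hdB).resolve_left hdh
    omega
  · exact ⟨hmemB' a haB, hmemB' c hcB, hmemB' d hdB, fun j hj0 hj => hmemB' _ (hBB j hj0 hj)⟩
  · exact ⟨hcS.2.symm, hdS.2.symm, hcd, hbne⟩
  · intro χ
    constructor
    · intro hχ
      by_cases hχ0 : χ = e₀
      · exact Or.inl hχ0
      right
      have hχB : χ ∈ B' := Finset.mem_erase.mpr ⟨hχ0, mem_blk.mpr hχ⟩
      have hnd : ¬ 2 ^ (n - 1) ∣ h := fun hd => by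
        have := Nat.le_of_dvd (by omega) hd
        omega
      have hv := hu.value χ h hnd
      have hJne := S.apply_J_ne_zero hM hχ
      rw [J, ← hhdef, hv] at hJne
      obtain ⟨j, hjr, hj⟩ := Finset.exists_ne_zero_of_sum_ne_zero hJne
      have hjlt := Finset.mem_range.mp hjr
      have huj : u χ j ≠ 0 := fun e => hj (by rw [e]; simp)
      have hj0 : 0 < j := Nat.pos_of_ne_zero fun e => huj (e ▸ S.vec_zero hu χ)
      obtain ⟨i, hi0, hih, hui⟩ : ∃ i, 0 < i ∧ i ≤ h ∧ u χ i ≠ 0 := by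
        by_cases hle : j ≤ h
        · exact ⟨j, hj0, hle, huj⟩
        · exact ⟨2 ^ (n - 1) - j, by omega, by omega, by rwa [S.vec_symm hζ hu χ hj0 hjlt]⟩
      rcases hih.eq_or_lt with rfl | hlt
      · rcases hallh χ hχB hui with e | e | e
        · exact Or.inl e
        · exact Or.inr (Or.inl e)
        · exact Or.inr (Or.inr (Or.inl e))
      · rcases hsupp χ hχB i hi0 hlt hui with e | e
        · exact Or.inl e
        · exact Or.inr (Or.inr (Or.inr ⟨i, hi0, hlt, e⟩))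
    · have hm' : ∀ x, x ∈ B' → x ∈ principalBlock M G := fun x hx =>
        mem_blk.mp (Finset.mem_erase.mp hx).2
      rintro (rfl | rfl | rfl | rfl | ⟨j, hj0, hj, rfl⟩)
      · exact mem_blk.mp he0m
      · exact hm' _ haB
      · exact hm' _ hcB
      · exact hm' _ hdB
      · exact hm' _ (hBB j hj0 hj)
  · intro j hj0 hj f
    rw [← Finset.add_sum_erase _ _ he0m, hone j hj0 hj.le, ← hB',
      ← Finset.sum_subset (s₁ := ({a, Bf j} : Finset _)) (s₂ := B')]
    · rw [Finset.sum_pair (hbne j hj0 hj).1.symm, huaj j hj0 hj.le, hδ j hj0 hj]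
      push_cast; ring
    · intro x hx
      simp only [Finset.mem_insert, Finset.mem_singleton] at hx
      rcases hx with rfl | rfl
      · exact haB
      · exact hBB j hj0 hj
    · intro x hx hxn
      have : u x j = 0 := by
        by_contra hx0
        exact hxn (by simpa using hsupp x hx j hj0 hj hx0)
      rw [this, Int.cast_zero, zero_mul]
  · intro f
    rw [← Finset.add_sum_erase _ _ he0m, hone h (by omega) le_rfl, ← hB',
      ← Finset.sum_subset (s₁ := ({a, c, d} : Finset _)) (s₂ := B')]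
    · rw [Finset.sum_insert (by simp [hcS.2.symm, hdS.2.symm]), Finset.sum_pair hcd]
      push_cast; ring
    · intro x hx
      simp only [Finset.mem_insert, Finset.mem_singleton] at hx
      rcases hx with rfl | rfl | rfl
      · exact haB
      · exact hcB
      · exact hdB
    · intro x hx hxn
      have : u x h = 0 := by
        by_contra hx0
        exact hxn (by simpa using hallh x hx hx0)
      rw [this, Int.cast_zero, zero_mul]
  · intro j hj0 hj
    rw [huaj j hj0 hj, neg_neg]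
  · intro j k hj0 hj hk0 hk
    split_ifs with e
    · rw [e, hδ j hj0 hj]
    · rcases hk.eq_or_lt with rfl | hlt
      · exact hBh j hj0 hj
      · by_contra hx0
        rcases hsupp _ (hBB j hj0 hj) k hk0 hlt hx0 with e' | e'
        · exact (hbne j hj0 hj).1 e'
        · exact e (hBinj j k hj0 hj hk0 hlt e').symm
  · refine ⟨fun j hj0 hj => ⟨?_, ?_⟩, (neg_neg _).symm, (neg_neg _).symm⟩
    · exact hucd c hcB hcS.2 (fun k hk0 hk e => (hbne k hk0 hk).2.1 e.symm) j hj0 hj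
    · exact hucd d hdB hdS.2 (fun k hk0 hk e => (hbne k hk0 hk).2.2 e.symm) j hj0 hj

end Setup

end Cfsg.Agent.ZStar.Dih
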